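import Groth.Agent.PerfDualLib.Local
import Groth.Agent.TensorAssocLib.Derived
import Groth.Agent.DerLib.KInjUse
import Groth.Prelude.Def_DCoh4

/-!
# The derived internal hom is computed by the internal hom complex
-/

set_option autoImplicit false
set_option backward.isDefEq.respectTransparency false
set_option backward.isDefEq.respectTransparency.types false
set_option maxHeartbeats 1000000

universe u

open CategoryTheory CategoryTheory.Limits AlgebraicGeometry HomologicalComplex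
open Groth.Agent.DerLib

attribute [local instance] HasDerivedCategory.standard

namespace Groth.Agent.PerfDualLib

section Generic

variable {C D : Type*} [Category* C] [Category* D] {Qf : C ⥤ D} [Qf.EssSurj] {t g : C ⥤ C}
  (a : t ⊣ g) {L R : D ⥤ D} (A : L ⊣ R) (c : Qf ⋙ L ≅ t ⋙ Qf) (I : C)

include a A c in
theorem nonempty_iso_rightAdjoint
    (hsurj : ∀ (P : C) (u : Qf.obj (t.obj P) ⟶ Qf.obj I), ∃ ψ, Qf.map ψ = u)
    (hfull : ∀ (P : C) (u : Qf.obj P ⟶ Qf.obj (g.obj I)), ∃ φ, Qf.map φ = u)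
    (hinj : ∀ (P : C) (φ φ' : P ⟶ g.obj I),
      Qf.map ((a.homEquiv P I).symm φ) = Qf.map ((a.homEquiv P I).symm φ') → Qf.map φ = Qf.map φ') :
    Nonempty (Qf.obj (g.obj I) ≅ R.obj (Qf.obj I)) := by
  let c₀ : Qf.obj (g.obj I) ⟶ R.obj (Qf.obj I) :=
    A.homEquiv _ _ (c.hom.app (g.obj I) ≫ Qf.map (a.counit.app I))
  have key : ∀ (P : C) (φ : P ⟶ g.obj I),
      (A.homEquiv _ _).symm (Qf.map φ ≫ c₀) = c.hom.app P ≫ Qf.map ((a.homEquiv P I).symm φ) := by
    intro P φ
    rw [A.homEquiv_naturality_left_symm, Equiv.symm_apply_apply, a.homEquiv_counit, Functor.map_comp]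
    exact c.hom.naturality_assoc φ _
  obtain ⟨e⟩ : Nonempty (Qf.obj (Qf.objPreimage (R.obj (Qf.obj I))) ≅ R.obj (Qf.obj I)) :=
    ⟨Qf.objObjPreimageIso _⟩
  obtain ⟨ψ, hψ⟩ := hsurj _ (c.inv.app _ ≫ (A.homEquiv _ _).symm e.hom)
  let φ₀ := a.homEquiv _ _ ψ
  have h0 : Qf.map φ₀ ≫ c₀ = e.hom := by
    apply (A.homEquiv _ _).symm.injective
    rw [key, Equiv.symm_apply_apply, hψ]
    exact c.hom_inv_id_app_assoc _ _
  refine ⟨⟨c₀, e.inv ≫ Qf.map φ₀, ?_, by rw [Category.assoc, h0, e.inv_hom_id]⟩⟩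
  obtain ⟨φ₁, hφ₁⟩ := hfull _ (c₀ ≫ e.inv ≫ Qf.map φ₀)
  rw [← hφ₁, ← Qf.map_id]
  refine hinj _ _ _ ?_
  rw [← cancel_epi (c.hom.app (g.obj I))]
  refine (key _ _).symm.trans (Eq.trans ?_ (key _ _))
  rw [hφ₁, Qf.map_id, Category.id_comp]
  simp only [Category.assoc, h0, e.inv_hom_id, Category.comp_id]

end Generic

variable {X : Scheme.{u}}

theorem isKInjective_iG {K : Cx X} (hK : DCoh.IsKFlat K) (I : Cx X) [I.IsKInjective] :
    CochainComplex.IsKInjective (iG K I) :=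
  ⟨fun {P} f hP => Gen.nonempty_null_of_adjunct (T := Tb X) f
    (CochainComplex.IsKInjective.homotopyZero (Gen.adjunct f) fun i =>
      (exactAt_iff_isZero_homology _ _).2 (hK P (fun n => (hP n).isZero_homology) i))⟩

theorem nonempty_iso_iG_flat {K : Cx X} [DCoh.HasLTensorCx K] [DCoh.HasRSheafHom K]
    (hK : DCoh.IsKFlat K) (I : Cx X) [I.IsKInjective] :
    Nonempty (DerivedCategory.Q.obj (iG K I) ≅ (DCoh.RSheafHom K).obj (DerivedCategory.Q.obj I)) := by
  haveI := isKInjective_iG hK I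
  refine nonempty_iso_rightAdjoint (Gen.gAdj (Tb X) K) (DCoh.RSheafHomAdj K)
    (TensorAssocLib.flatCnt K hK) I (fun P u => KInjUse.Q_map_surjective _ _ u)
    (fun P u => KInjUse.Q_map_surjective _ _ u) fun P φ φ' h => ?_
  have hadd : Gen.adjunct (φ - φ') = Gen.adjunct φ - Gen.adjunct φ' := by
    haveI : (Gen.tR (Tb X) K).Additive := KFlatLib.additive_bimap₁ (Tb X) K
    simp only [Gen.adjunct, Adjunction.homEquiv_counit, Functor.map_sub, Preadditive.sub_comp]
  have h0 : DerivedCategory.Q.map (Gen.adjunct (φ - φ')) = 0 := by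
    rw [hadd, Functor.map_sub, sub_eq_zero]
    exact h
  obtain ⟨H⟩ := Gen.nonempty_null_of_adjunct (φ - φ')
    (HomotopyCategory.homotopyOfEq _ 0 ((KInjUse.quotient_eq_zero_of_Q h0).trans
      ((HomotopyCategory.quotient _ _).map_zero _ _).symm))
  rw [← sub_eq_zero, ← Functor.map_sub]
  exact KInjUse.Q_map_zero_of_quotient ((HomotopyCategory.eq_of_homotopy _ 0 H).trans
    ((HomotopyCategory.quotient _ _).map_zero _ _))

theorem quasiIso_tL_of_kFlat {P : Cx X} (hP : DCoh.IsKFlat P) {K' K : Cx X} (q : K' ⟶ K)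
    [QuasiIso q] : QuasiIso (((DCoh.tensorCx (X := X)).obj P).map q) :=
  KFlatLib.quasiIso_tensor_left hP q

/-- Quasi-isomorphic complexes have isomorphic derived tensor functors. -/
theorem nonempty_lTensor_congr {K' K : Cx X} (q : K' ⟶ K) [QuasiIso q] [DCoh.HasLTensorCx K']
    [DCoh.HasLTensorCx K] : Nonempty (DCoh.LTensorCx K' ≅ DCoh.LTensorCx K) := by
  let e : KFlatLib.resP X ⋙ TensorAssocLib.tR K' ⋙ DerivedCategory.Q ≅
      KFlatLib.resP X ⋙ TensorAssocLib.tR K ⋙ DerivedCategory.Q :=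
    NatIso.ofComponents (fun P =>
      haveI := quasiIso_tL_of_kFlat (KFlatLib.good_resP P).1 q
      asIso (DerivedCategory.Q.map (((DCoh.tensorCx (X := X)).obj ((KFlatLib.resP X).obj P)).map q)))
      fun {P P'} f => (DerivedCategory.Q.map_comp _ _).symm.trans ((congrArg DerivedCategory.Q.map
        (((DCoh.tensorCx (X := X)).map ((KFlatLib.resP X).map f)).naturality q).symm).trans
          (DerivedCategory.Q.map_comp _ _))
  exact ⟨Localization.liftNatIso DerivedCategory.Q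
    (HomologicalComplex.quasiIso X.Modules (ComplexShape.up ℤ))
    (DerivedCategory.Q ⋙ DCoh.LTensorCx K') (DerivedCategory.Q ⋙ DCoh.LTensorCx K) _ _
    (TensorAssocLib.resIso (DCoh.LTensorCx K') ≪≫ TensorAssocLib.resCnt K' ≪≫ e ≪≫
      (TensorAssocLib.resCnt K).symm ≪≫ (TensorAssocLib.resIso (DCoh.LTensorCx K)).symm)⟩

/-- `RHom(K, L)` is computed by the internal hom complex. -/
theorem nonempty_rSheafHom_iso (K : Cx X) [DCoh.HasLTensorCx K] [DCoh.HasRSheafHom K]
    (I : Cx X) [I.IsKInjective] {L : DCoh.D X} (e : DerivedCategory.Q.obj I ≅ L) :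
    Nonempty ((DCoh.RSheafHom K).obj L ≅ DerivedCategory.Q.obj (iG K I)) := by
  let K' := (KFlatLib.resP X).obj K
  let q : K' ⟶ K := (KFlatLib.resψ X).app K
  haveI : QuasiIso q := KFlatLib.quasiIso_resψ K
  haveI := KFlatLib.hasLTensorCx K'
  obtain ⟨ω⟩ := nonempty_lTensor_congr q
  haveI : DCoh.HasRSheafHom K' :=
    ((DCoh.RSheafHomAdj K).ofNatIsoLeft ω.symm).isLeftAdjoint
  obtain ⟨e₁⟩ := nonempty_iso_iG_flat (KFlatLib.good_resP K).1 I (K := K')
  let α : DCoh.RSheafHom K' ≅ DCoh.RSheafHom K :=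
    (DCoh.RSheafHomAdj K').rightAdjointUniq ((DCoh.RSheafHomAdj K).ofNatIsoLeft ω.symm)
  haveI := quasiIso_gm q I
  haveI : IsIso (DerivedCategory.Q.map (gm q I)) := inferInstance
  exact ⟨(DCoh.RSheafHom K).mapIso e.symm ≪≫ (α.app _).symm ≪≫ e₁.symm ≪≫
    (asIso (DerivedCategory.Q.map (gm q I))).symm⟩

/-- Isomorphic objects of `D(O_X)` have quasi-isomorphic internal hom complexes. -/
theorem nonempty_iG_congr {K K' : Cx X} (e : DerivedCategory.Q.obj K ≅ DerivedCategory.Q.obj K')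
    (I : Cx X) [I.IsKInjective] :
    Nonempty (DerivedCategory.Q.obj (iG K I) ≅ DerivedCategory.Q.obj (iG K' I)) := by
  obtain ⟨P, s, hs, g, hg⟩ := DerivedCategory.right_fac e.hom
  haveI : QuasiIso s := (DerivedCategory.isIso_Q_map_iff_quasiIso _ s).1 hs
  haveI : IsIso (DerivedCategory.Q.map g) := by
    have : DerivedCategory.Q.map g = DerivedCategory.Q.map s ≫ e.hom := by
      rw [hg, IsIso.hom_inv_id_assoc]
    rw [this]
    infer_instance
  haveI : QuasiIso g := (DerivedCategory.isIso_Q_map_iff_quasiIso _ g).1 ‹_›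
  haveI := quasiIso_gm s I
  haveI := quasiIso_gm g I
  exact ⟨asIso (DerivedCategory.Q.map (gm s I)) ≪≫ (asIso (DerivedCategory.Q.map (gm g I))).symm⟩

end Groth.Agent.PerfDualLib
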