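import Groth.Agent.PerfDualLib.IntHom
import Groth.Agent.PerfCompLib.Theta
import Groth.Agent.KFlatLib.QCohTensor

/-!
# The unit of the tensor product of complexes
-/

set_option autoImplicit false
set_option backward.isDefEq.respectTransparency false
set_option backward.isDefEq.respectTransparency.types false

universe u

open CategoryTheory CategoryTheory.Limits HomologicalComplex AlgebraicGeometry MonoidalCategory

namespace Groth.Agent.PerfDualLib

namespace Gen

variable {A : Type*} [Category* A] [Abelian A] (F : A ⥤ A ⥤ A) [F.Additive]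
  [∀ a, (F.obj a).Additive]
  [∀ K L : CochainComplex A ℤ, HasMapBifunctor K L F (ComplexShape.up ℤ)]
  (M : A) [(F.flip.obj M).Additive]

/-- The inclusion of the only nonzero summand. -/
noncomputable def singleMap₂ (E : CochainComplex A ℤ) (n : ℤ) : (F.obj (E.X n)).obj M ⟶
    (mapBifunctor E ((single A (ComplexShape.up ℤ) 0).obj M) F (ComplexShape.up ℤ)).X n :=
  (F.obj (E.X n)).map (singleObjXSelf (ComplexShape.up ℤ) 0 M).inv ≫
    ιMapBifunctor E _ F (ComplexShape.up ℤ) n 0 n (add_zero n)

theorem isIso_singleMap₂ (E : CochainComplex A ℤ) (n : ℤ) : IsIso (singleMap₂ F M E n) := by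
  have hz : ∀ p q, q ≠ 0 →
      IsZero ((F.obj (E.X p)).obj (((single A (ComplexShape.up ℤ) 0).obj M).X q)) :=
    fun p q hq => (F.obj (E.X p)).map_isZero (isZero_single_obj_X (ComplexShape.up ℤ) 0 M q hq)
  let r : (mapBifunctor E ((single A (ComplexShape.up ℤ) 0).obj M) F (ComplexShape.up ℤ)).X n ⟶
      (F.obj (E.X n)).obj M :=
    mapBifunctorDesc fun p q h => if hq : q = 0 then
      (F.map (E.XIsoOfEq (show p = n by have : p + q = n := h; omega)).hom).app _ ≫
        (F.obj (E.X n)).map ((((single A (ComplexShape.up ℤ) 0).obj M).XIsoOfEq hq).hom ≫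
          (singleObjXSelf (ComplexShape.up ℤ) 0 M).hom)
      else 0
  refine ⟨r, ?_, mapBifunctor.hom_ext fun p q h => ?_⟩
  · rw [singleMap₂, Category.assoc, ι_mapBifunctorDesc, dif_pos rfl]
    simp only [XIsoOfEq_rfl, Iso.refl_hom, Category.id_comp, CategoryTheory.Functor.map_id,
      NatTrans.id_app, ← Functor.map_comp, Iso.inv_hom_id]
  · by_cases hq : q = 0
    · subst hq
      obtain rfl : p = n := by have : p + 0 = n := h; omega
      rw [Category.comp_id, ← Category.assoc, ι_mapBifunctorDesc, dif_pos rfl, singleMap₂]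
      simp only [XIsoOfEq_rfl, Iso.refl_hom, Category.id_comp, CategoryTheory.Functor.map_id,
        NatTrans.id_app, ← Category.assoc, ← Functor.map_comp, Iso.hom_inv_id]
    · exact (hz p q hq).eq_of_src _ _

/-- Totalising with a module in degree zero. -/
noncomputable def tRSingleIso :
    (F.flip.obj M).mapHomologicalComplex (ComplexShape.up ℤ) ≅
      tR F ((single A (ComplexShape.up ℤ) 0).obj M) :=
  NatIso.ofComponents
    (fun E => HomologicalComplex.Hom.isoOfComponents
      (fun n => @asIso _ _ _ _ (singleMap₂ F M E n) (isIso_singleMap₂ F M E n))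
      (fun n n' hn => by
        have hn' : n + 1 = n' := hn
        show singleMap₂ F M E n ≫ _ = (F.map (E.d n n')).app M ≫ singleMap₂ F M E n'
        rw [singleMap₂, singleMap₂, Category.assoc]
        show _ ≫ ιMapBifunctor E _ F (ComplexShape.up ℤ) n 0 n _ ≫
          (mapBifunctor E ((single A (ComplexShape.up ℤ) 0).obj M) F (ComplexShape.up ℤ)).d n n' = _
        rw [mapBifunctor.d_eq, Preadditive.comp_add, mapBifunctor.ι_D₁, mapBifunctor.ι_D₂,
          mapBifunctor.d₁_eq _ _ _ _ (hn : (ComplexShape.up ℤ).Rel n n') 0 n'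
            (show n' + 0 = n' by omega),
          mapBifunctor.d₂_eq _ _ _ _ n (rfl : (ComplexShape.up ℤ).Rel 0 (0 + 1)) n'
            (show n + (0 + 1) = n' by omega)]
        simp only [single_obj_d, Functor.map_zero, zero_comp, smul_zero, add_zero]
        rw [show (ComplexShape.ε₁ (ComplexShape.up ℤ) (ComplexShape.up ℤ) (ComplexShape.up ℤ) (n, 0) : ℤˣ) = 1
          from rfl, one_smul, ← Category.assoc, ← Category.assoc]
        congr 1
        exact (F.map (E.d n n')).naturality (singleObjXSelf (ComplexShape.up ℤ) 0 M).inv))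
    (fun {E E'} f => HomologicalComplex.hom_ext _ _ fun n => by
      show (F.map (f.f n)).app M ≫ singleMap₂ F M E' n =
        singleMap₂ F M E n ≫ (mapBifunctorMap f (𝟙 _) F (ComplexShape.up ℤ)).f n
      rw [singleMap₂, singleMap₂, Category.assoc, ι_mapBifunctorMap]
      simp only [id_f, CategoryTheory.Functor.map_id, Category.id_comp, ← Category.assoc]
      congr 1
      exact ((F.map (f.f n)).naturality (singleObjXSelf (ComplexShape.up ℤ) 0 M).inv).symm)

/-- Totalising with a unit is the identity. -/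
noncomputable def tRUnitIso (e : F.flip.obj M ≅ 𝟭 A) :
    tR F ((single A (ComplexShape.up ℤ) 0).obj M) ≅ 𝟭 _ :=
  (tRSingleIso F M).symm ≪≫ NatIso.mapHomologicalComplex e (ComplexShape.up ℤ) ≪≫
    Functor.mapHomologicalComplexIdIso A (ComplexShape.up ℤ)

/-- The right adjoint of a functor isomorphic to the identity. -/
noncomputable def rightAdjointIsoId {C : Type*} [Category* C] {L R : C ⥤ C} (a : L ⊣ R)
    (e : L ≅ 𝟭 C) : R ≅ 𝟭 C :=
  a.rightAdjointUniq (Adjunction.id.ofNatIsoLeft e.symm)

omit [(F.flip.obj M).Additive] in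
/-- The internal hom out of a unit. -/
noncomputable def gIsoId [∀ K : CochainComplex A ℤ, (tR F K).IsLeftAdjoint]
    {U : CochainComplex A ℤ} (e : tR F U ≅ 𝟭 _) : G F U ≅ 𝟭 _ :=
  rightAdjointIsoId (gAdj F U) e

end Gen

variable {X : Scheme.{u}}

/-- `- ⊗ O ≅ id` on modules. -/
noncomputable def modUnitNat :
    (DCoh.tensorBi (X := X)).flip.obj (Coh.structureModule X) ≅ 𝟭 X.Modules :=
  (NatIso.ofComponents (fun N => KFlatLib.tensSwap (Coh.structureModule X) N) fun {N N'} f =>
    (DCoh.shP.map_comp _ _).symm.trans ((congrArg DCoh.shP.map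
      (BraidedCategory.braiding_naturality_left (DCoh.toP.map f)
        (DCoh.toP.obj (Coh.structureModule X)))).trans (DCoh.shP.map_comp _ _))) ≪≫
    PerfCompLib.tensUnitNat

/-- The unit complex. -/
noncomputable abbrev unitCx (X : Scheme.{u}) : Cx X :=
  (single X.Modules (ComplexShape.up ℤ) 0).obj (Coh.structureModule X)

/-- `- ⊗ O ≅ id` on complexes. -/
noncomputable def unitNat : Gen.tR (DCoh.tensorBi (X := X)) (unitCx X) ≅ 𝟭 (Cx X) :=
  Gen.tRUnitIso (DCoh.tensorBi (X := X)) (Coh.structureModule X) modUnitNat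

/-- `Hom(O, -) ≅ id`. -/
noncomputable def gUnitIso : Gen.G (DCoh.tensorBi (X := X)) (unitCx X) ≅ 𝟭 (Cx X) :=
  Gen.gIsoId (DCoh.tensorBi (X := X)) unitNat

end Groth.Agent.PerfDualLib
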