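import Groth.Agent.PerfDualLib.Devissage
import Groth.Agent.PerfDualLib.Derived
import Groth.Agent.PerfDualLib.Unit
import Groth.Agent.PerfLib.Derived
import Groth.Agent.DerLib.WeakSerreTri
import Groth.Agent.KHeartLib.CohSupp
import Groth.Agent.RpushLib.Finite
import Groth.Agent.KFlatLib.QCohPull

/-!
# Properties of internal homs out of perfect objects
-/

set_option autoImplicit false
set_option backward.isDefEq.respectTransparency false
set_option backward.isDefEq.respectTransparency.types false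
set_option maxHeartbeats 1000000

universe u

open CategoryTheory CategoryTheory.Limits AlgebraicGeometry HomologicalComplex Pretriangulated

attribute [local instance] HasDerivedCategory.standard

namespace Groth.Agent.PerfDualLib

variable {X : Scheme.{u}} (U : X.Opens)

/-- A triangle-closed property of objects of `D(O_U)`. -/
structure TriClosed (C : ObjectProperty (DCoh.D (U : Scheme.{u}))) : Prop where
  iso : ∀ {P Q : DCoh.D (U : Scheme.{u})}, (P ≅ Q) → C P → C Q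
  zero : ∀ {P : DCoh.D (U : Scheme.{u})}, IsZero P → C P
  obj₁ : ∀ T ∈ distinguishedTriangles, C T.obj₂ → C T.obj₃ → C T.obj₁
  obj₂ : ∀ T ∈ distinguishedTriangles, C T.obj₁ → C T.obj₃ → C T.obj₂
  obj₃ : ∀ T ∈ distinguishedTriangles, C T.obj₁ → C T.obj₂ → C T.obj₃

theorem triClosed_cohIn (R : ObjectProperty (U : Scheme.{u}).Modules) [WSerre.IsWeakSerre R] :
    TriClosed U (fun P => WSerre.cohIn R P) where
  iso e h := Groth.Agent.DerLib.WeakSerreTri.cohIn_of_iso R e h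
  zero h i := R.prop_of_isZero ((DerivedCategory.homologyFunctor _ i).map_isZero h)
  obj₁ T hT h₂ h₃ :=
    Groth.Agent.DerLib.WeakSerreTri.cohIn_obj₂ R _ (inv_rot_of_distTriang _ hT)
      (Groth.Agent.DerLib.WeakSerreTri.cohIn_shift R _ (-1) h₃) h₂
  obj₂ T hT h₁ h₃ := Groth.Agent.DerLib.WeakSerreTri.cohIn_obj₂ R _ hT h₁ h₃
  obj₃ T hT h₁ h₂ :=
    Groth.Agent.DerLib.WeakSerreTri.cohIn_obj₂ R _ (rot_of_distTriang _ hT) h₂
      (Groth.Agent.DerLib.WeakSerreTri.cohIn_shift R _ 1 h₁)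

theorem isWeakSerre_isQCoh {Y : Scheme.{u}} :
    WSerre.IsWeakSerre (fun M : Y.Modules => Coh.IsQCoh M) where
  exists_zero := ⟨_, Limits.isZero_zero _, DevissLib.isCoh_of_isZero (Limits.isZero_zero _) |>.1⟩
  kernels_le := by
    rintro _ ⟨f, k, hk, hf⟩
    haveI : Coh.IsQCoh _ := hf.1
    haveI : Coh.IsQCoh _ := hf.2
    haveI : Coh.IsQCoh (kernel f) := QCohLib.isQCoh_kernel f
    exact QCohLib.isQCoh_of_iso (X := Y) (M := kernel f)
      (hk.conePointUniqueUpToIso (limit.isLimit _)).symm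
  cokernels_le := by
    rintro _ ⟨f, k, hk, hf⟩
    haveI : Coh.IsQCoh (cokernel f) := @QCohLib.isQCoh_cokernel _ _ _ f hf.1 hf.2
    exact QCohLib.isQCoh_of_iso (X := Y) (M := cokernel f)
      (hk.coconePointUniqueUpToIso (colimit.isColimit _)).symm
  prop_X₂_of_shortExact hS h₁ h₃ := @QCohLib.isQCoh_of_shortExact _ _ hS h₁ h₃

theorem triClosed_isQCohD : TriClosed U (DCoh.IsQCohD (X := (U : Scheme.{u}))) :=
  haveI := isWeakSerre_isQCoh (Y := (U : Scheme.{u}))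
  triClosed_cohIn U (fun M : (U : Scheme.{u}).Modules => Coh.IsQCoh M)

theorem triClosed_isCohD [IsLocallyNoetherian X] :
    TriClosed U (DCoh.IsCohD (X := (U : Scheme.{u}))) :=
  haveI := isLocallyNoetherian_of_isOpenImmersion U.ι
  haveI := KHeartLib.isWeakSerre_isCoh (X := (U : Scheme.{u}))
  triClosed_cohIn U (fun M : (U : Scheme.{u}).Modules => Coh.IsCoh M)

theorem isPerfect_of_isZero {Y : Scheme.{u}} {P : DCoh.D Y} (h : IsZero P) : DCoh.IsPerfect P :=
  fun x => ⟨⊤, trivial, fun F ⟨e⟩ => ⟨(⊥_ _), ⟨⟨0, 0, fun i _ =>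
      (eval _ (ComplexShape.up ℤ) i).map_isZero initialIsInitial.isZero⟩, fun i =>
      KFlatLib.isFinLocFree_of_isFinFree (KFlatLib.isFinFree_of_isZero
        ((eval _ (ComplexShape.up ℤ) i).map_isZero initialIsInitial.isZero))⟩,
    ⟨((PerfLib.resDQIso _ F).symm).trans ((((PerfLib.resD _).map_isZero (h.of_iso e))).iso
      (DerivedCategory.Q.map_isZero initialIsInitial.isZero))⟩⟩⟩

theorem triClosed_isPerfect : TriClosed U (DCoh.IsPerfect (X := (U : Scheme.{u}))) where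
  iso e h := PerfLib.isPerfect_of_iso e h
  zero h := isPerfect_of_isZero h
  obj₁ T hT := PerfLib.isPerfect_obj₁ T hT
  obj₂ T hT := PerfLib.isPerfect_obj₂ T hT
  obj₃ T hT := PerfLib.isPerfect_obj₃ T hT

/-- The restriction to `U` of an internal hom. -/
noncomputable abbrev gRes (I K : Cx X) : DCoh.D (U : Scheme.{u}) :=
  (DCoh.restrictD U.ι).obj (DerivedCategory.Q.obj (iG K I))

variable {U}

theorem loc_gRes {C : ObjectProperty (DCoh.D (U : Scheme.{u}))} (hC : TriClosed U C) (I : Cx X)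
    [I.IsKInjective] (hI : C ((DCoh.restrictD U.ι).obj (DerivedCategory.Q.obj I))) :
    Loc U (fun K => C (gRes U I K)) where
  qis κ hκ := by
    haveI := isIso_restrictD_of_qisOn U (qisOn_gm hκ I)
    exact ⟨hC.iso (asIso ((DCoh.restrictD U.ι).map (DerivedCategory.Q.map (gm κ I)))).symm,
      hC.iso (asIso ((DCoh.restrictD U.ι).map (DerivedCategory.Q.map (gm κ I))))⟩
  contractible hW := hC.zero (isZero_restrictD_of_acyOn U
    (acyOn_of_contractible U (Gen.nonempty_contractible_G (T := Tb X) hW I).some))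
  ext₁ {S} hS h₂ h₃ := by
    obtain ⟨δ, hT⟩ := exists_triangle U (Gen.shortExact_G (T := Tb X) hS I)
    exact hC.obj₃ _ hT h₃ h₂
  ext₂ {S} hS h₁ h₃ := by
    obtain ⟨δ, hT⟩ := exists_triangle U (Gen.shortExact_G (T := Tb X) hS I)
    exact hC.obj₂ _ hT h₃ h₁
  ext₃ {S} hS h₁ h₂ := by
    obtain ⟨δ, hT⟩ := exists_triangle U (Gen.shortExact_G (T := Tb X) hS I)
    exact hC.obj₁ _ hT h₂ h₁
  unit := hC.iso ((DCoh.restrictD U.ι).mapIso (DerivedCategory.Q.mapIso (gUnitIso.app I))).symm hI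

/-- A perfect complex is, near every point, a bounded complex of free modules. -/
theorem exists_free_nbhd {K : Cx X} (hK : DCoh.IsPerfect (DerivedCategory.Q.obj K)) (x : X) :
    ∃ (U : X.Opens) (_ : x ∈ U) (E : Cx (U : Scheme.{u})) (a b : ℤ),
      (∀ i, i < a ∨ b < i → IsZero (E.X i)) ∧ (∀ i, KFlatLib.IsFinFree (E.X i)) ∧
        Nonempty (DerivedCategory.Q.obj E ≅ DerivedCategory.Q.obj ((rC U).obj K)) := by
  obtain ⟨V, hx, hV⟩ := hK x
  obtain ⟨E, ⟨⟨a, b, hv⟩, hf⟩, ⟨e⟩⟩ := hV K ⟨Iso.refl _⟩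
  choose W n hW hn using fun i => hf i (⟨x, hx⟩ : (V : Scheme.{u}))
  let W₀ : (V : Scheme.{u}).Opens := (Finset.Icc a b).inf W
  have hx₀ : (⟨x, hx⟩ : (V : Scheme.{u})) ∈ W₀ := by
    rw [← SetLike.mem_coe, TopologicalSpace.Opens.coe_finset_inf, Finset.inf_set_eq_iInter]
    exact Set.mem_iInter₂.2 fun i _ => hW i
  have hfree : ∀ i, KFlatLib.IsFinFree ((PerfLib.res W₀.ι).obj (E.X i)) := fun i => by
    by_cases hi : i ∈ Finset.Icc a b
    · exact PerfLib.isFinFree_res_le (Finset.inf_le hi) ⟨n i, hn i⟩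
    · refine KFlatLib.isFinFree_of_isZero ((PerfLib.res W₀.ι).map_isZero (hv i ?_))
      rw [Finset.mem_Icc] at hi
      omega
  let j := W₀.ι ≫ V.ι
  let g := (Scheme.Hom.isoOpensRange j).inv
  refine ⟨j.opensRange, ⟨⟨⟨x, hx⟩, hx₀⟩, rfl⟩, (PerfLib.resC g).obj ((PerfLib.resC W₀.ι).obj E), a, b,
    fun i hi => (PerfLib.res g).map_isZero ((PerfLib.res W₀.ι).map_isZero (hv i hi)),
    fun i => PerfLib.isFinFree_res g (hfree i), ?_⟩
  obtain ⟨c₁⟩ := PerfLib.nonempty_resD_comp W₀.ι V.ι (DerivedCategory.Q.obj K)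
  obtain ⟨c₂⟩ := PerfLib.nonempty_resD_comp g j (DerivedCategory.Q.obj K)
  obtain ⟨c₃⟩ := PerfLib.nonempty_resD_congr (Scheme.Hom.isoOpensRange_inv_comp j)
    (DerivedCategory.Q.obj K)
  exact ⟨((PerfLib.resDQIso g _).symm ≪≫ (PerfLib.resD g).mapIso ((PerfLib.resDQIso W₀.ι E).symm ≪≫
    (PerfLib.resD W₀.ι).mapIso (e.symm ≪≫ (PerfLib.resDQIso V.ι K).symm) ≪≫ c₁.symm) ≪≫ c₂.symm ≪≫
      c₃) ≪≫ PerfLib.resDQIso _ K⟩

/-- Internal homs out of a perfect complex inherit triangle-closed local properties. -/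
theorem prop_gRes_of_isPerfect {K : Cx X} (hK : DCoh.IsPerfect (DerivedCategory.Q.obj K)) (I : Cx X)
    [I.IsKInjective] (C : ∀ U : X.Opens, ObjectProperty (DCoh.D (U : Scheme.{u})))
    (hC : ∀ U, TriClosed U (C U))
    (hI : ∀ U : X.Opens, C U ((DCoh.restrictD U.ι).obj (DerivedCategory.Q.obj I))) (x : X) :
    ∃ (U : X.Opens) (_ : x ∈ U), C U (gRes U I K) := by
  obtain ⟨U, hx, E, a, b, hv, hf, ⟨e⟩⟩ := exists_free_nbhd hK x
  exact ⟨U, hx, (loc_gRes (hC U) I (hI U)).prop_of_iso K E a b hv hf e⟩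

theorem isQCoh_restrict (M : X.Modules) [Coh.IsQCoh M] (U : X.Opens) :
    Coh.IsQCoh (M.restrict U.ι) :=
  have := KFlatLib.isQCoh_pullback U.ι M
  QCohLib.isQCoh_of_iso ((Scheme.Modules.restrictFunctorIsoPullback U.ι).app M).symm

theorem isQCohD_restrictD {L : DCoh.D X} (hL : DCoh.IsQCohD L) (U : X.Opens) :
    DCoh.IsQCohD ((DCoh.restrictD U.ι).obj L) := fun i =>
  haveI := hL i
  haveI := isQCoh_restrict (DCoh.HD L i) U
  QCohLib.isQCoh_of_iso (DCohRestrLib.restrictHDIso U.ι L i).symm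

theorem isCohD_restrictD {L : DCoh.D X} (hL : DCoh.IsCohD L) (U : X.Opens) :
    DCoh.IsCohD ((DCoh.restrictD U.ι).obj L) := fun i =>
  haveI := (hL i).1
  QCohLib.isCoh_of_iso (DCohRestrLib.restrictHDIso U.ι L i).symm
    ⟨isQCoh_restrict (DCoh.HD L i) U, RpushLib.isFT_restrict (hL i).2 U⟩

theorem isQCohD_of_local {L : DCoh.D X}
    (h : ∀ x : X, ∃ (U : X.Opens) (_ : x ∈ U), DCoh.IsQCohD ((DCoh.restrictD U.ι).obj L)) :
    DCoh.IsQCohD L := fun i => by
  choose U hU hq using h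
  exact QCohLib.isQCoh_of_cover _ U (eq_top_iff.2 fun p _ => TopologicalSpace.Opens.mem_iSup.2 ⟨p, hU p⟩)
    fun p =>
      haveI := hq p i
      QCohLib.isQCoh_of_iso (DCohRestrLib.restrictHDIso (U p).ι L i)

theorem isCohD_of_local {L : DCoh.D X}
    (h : ∀ x : X, ∃ (U : X.Opens) (_ : x ∈ U), DCoh.IsCohD ((DCoh.restrictD U.ι).obj L)) :
    DCoh.IsCohD L := fun i => by
  choose U hU hq using h
  exact PerfLib.isCoh_of_cover _ U (eq_top_iff.2 fun p _ => TopologicalSpace.Opens.mem_iSup.2 ⟨p, hU p⟩)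
    fun p => QCohLib.isCoh_of_iso (DCohRestrLib.restrictHDIso (U p).ι L i) (hq p i)

/-- `RHom` out of a perfect complex preserves quasi-coherent cohomology. -/
theorem isQCohD_rSheafHom_of_isPerfect (K : Cx X) (hK : DCoh.IsPerfect (DerivedCategory.Q.obj K))
    [DCoh.HasLTensorCx K] [DCoh.HasRSheafHom K] (L : DCoh.D X) (hL : DCoh.IsQCohD L) :
    DCoh.IsQCohD ((DCoh.RSheafHom K).obj L) := by
  obtain ⟨I, hI, ⟨e⟩⟩ := Groth.Agent.DerLib.KInjUse.exists_iso_Q_kInjective L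
  obtain ⟨f⟩ := nonempty_rSheafHom_iso K I e.symm
  refine isQCohD_of_local fun x => ?_
  obtain ⟨U, hx, h⟩ := prop_gRes_of_isPerfect hK I (fun U => DCoh.IsQCohD) triClosed_isQCohD
    (fun U => (triClosed_isQCohD U).iso ((DCoh.restrictD U.ι).mapIso e) (isQCohD_restrictD hL U)) x
  exact ⟨U, hx, (triClosed_isQCohD U).iso ((DCoh.restrictD U.ι).mapIso f.symm) h⟩

end Groth.Agent.PerfDualLib
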