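import Groth.Agent.PerfLib.FiniteType
import Groth.Agent.DerLib.WeakSerreTri
import Groth.Agent.KFlatLib.QCohPull

/-!
# Bounded above coherent objects are pseudo-coherent
-/

set_option autoImplicit false
set_option backward.isDefEq.respectTransparency false
set_option backward.isDefEq.respectTransparency.types false

universe u

open CategoryTheory CategoryTheory.Limits AlgebraicGeometry Pretriangulated
open DerivedCategory.TStructure

attribute [local instance] HasDerivedCategory.standard

namespace Groth.Agent.PerfDualLib

open Groth.Agent.PerfLib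

theorem isPC_single_of_isCoh (n : ℕ) : ∀ {X : Scheme.{u}} [IsLocallyNoetherian X] {M : X.Modules},
    Coh.IsCoh M → DCoh.IsPseudoCoherentD (-(n : ℤ)) (DCoh.inD X M) := by
  induction n with
  | zero => exact fun {X} _ {M} h => by simpa using isPC_zero_of_isFT h.2
  | succ n ih =>
    intro X _ M h
    refine isPC_local fun x => ?_
    obtain ⟨U, hx, k, s, hs⟩ := QCohLib.exists_genOn_of_isFT h.2 x
    let σ := (QCohLib.genTop_restrict hs).generatingSections
    haveI := isLocallyNoetherian_of_isOpenImmersion U.ι
    refine ⟨U, U.ι, inferInstance, ⟨x, hx⟩, rfl, isPC_of_iso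
      ((Scheme.Modules.restrictFunctor U.ι).mapDerivedCategorySingleFunctor 0 |>.app M).symm ?_⟩
    let g : (SheafOfModules.free (R := (U : Scheme.{u}).ringCatSheaf) σ.I : (U : Scheme.{u}).Modules) ⟶
      M.restrict U.ι := σ.π
    have hF : FlatMod.IsFinLocFree (SheafOfModules.free (R := (U : Scheme.{u}).ringCatSheaf) σ.I :
        (U : Scheme.{u}).Modules) :=
      KFlatLib.isFinLocFree_of_isFinFree
        (@isFinFree_free (U : Scheme.{u}) σ.I (inferInstanceAs (Finite (ULift.{u} (Fin k)))))
    have hk : Coh.IsCoh (kernel g) := by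
      refine QCohLib.isCoh_kernel g (isCoh_of_isFinLocFree hF) ?_
      haveI := h.1
      haveI := KFlatLib.isQCoh_pullback U.ι M
      exact QCohLib.isQCoh_of_iso ((Scheme.Modules.restrictFunctorIsoPullback U.ι).app M).symm
    let S : ShortComplex (U : Scheme.{u}).Modules :=
      ShortComplex.mk (kernel.ι g) g (kernel.condition g)
    have hS : S.ShortExact :=
      { exact := ShortComplex.exact_kernel g
        mono_f := inferInstanceAs (Mono (kernel.ι g))
        epi_g := σ.epi }
    refine isPC_obj₃ _ hS.singleTriangle_distinguished _ ?_ (isPC_single_locFree _ hF)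
    have h0 := ih hk
    have he : -((n + 1 : ℕ) : ℤ) + 1 = -(n : ℤ) := by omega
    rw [he]
    exact h0

theorem isPC_single (X : Scheme.{u}) [IsLocallyNoetherian X] {M : X.Modules} (h : Coh.IsCoh M)
    (b m : ℤ) : DCoh.IsPseudoCoherentD m ((DerivedCategory.singleFunctor X.Modules b).obj M) := by
  refine isPC_mono (show -((b - m).toNat : ℤ) - (-b) ≤ m by omega) (isPC_of_iso ?_
    (isPC_shift (isPC_single_of_isCoh (b - m).toNat h) (-b)))
  exact ((DerivedCategory.singleFunctors X.Modules).shiftIso (-b) b 0 (by omega)).app M

theorem isPC_of_isCohD_aux (k : ℕ) : ∀ {X : Scheme.{u}} [IsLocallyNoetherian X] (K : DCoh.D X)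
    (b m : ℤ) [K.IsLE b], DCoh.IsCohD K → b < m + k → DCoh.IsPseudoCoherentD m K := by
  induction k with
  | zero =>
    exact fun {X} _ K b m _ _ hlt => isPC_of_isZero_above fun i hi =>
      DerivedCategory.isZero_of_isLE K b i (by omega)
  | succ k ih =>
    intro X _ K b m _ h hlt
    refine isPC_obj₂ _ (DerivedCategory.TStructure.t.triangleLEGT_distinguished (b - 1) K) m ?_ ?_
    · change DCoh.IsPseudoCoherentD m
        ((DerivedCategory.TStructure.t.truncLE (b - 1)).obj K)
      refine ih _ (b - 1) m (fun q => ?_) (by omega)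
      by_cases hq : q ≤ b - 1
      · haveI := DerLib.Devissage.isIso_homology_truncLEι K (b - 1) q hq
        exact QCohLib.isCoh_of_iso (asIso ((DerivedCategory.homologyFunctor X.Modules q).map
          ((DerivedCategory.TStructure.t.truncLEι (b - 1)).app K))).symm (h q)
      · exact DevissLib.isCoh_of_isZero (DerivedCategory.isZero_of_isLE _ (b - 1) q (by omega))
    · change DCoh.IsPseudoCoherentD m
        ((DerivedCategory.TStructure.t.truncGT (b - 1)).obj K)
      haveI : ((DerivedCategory.TStructure.t.truncGT (b - 1)).obj K).IsLE b := by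
        rw [DerivedCategory.isLE_iff]
        intro i hi
        haveI := DerLib.Devissage.isIso_homology_truncGTπ K (b - 1) i (by omega)
        exact (DerivedCategory.isZero_of_isLE K b i hi).of_iso
          (asIso ((DerivedCategory.homologyFunctor X.Modules i).map
            ((DerivedCategory.TStructure.t.truncGTπ (b - 1)).app K))).symm
      haveI : ((DerivedCategory.TStructure.t.truncGT (b - 1)).obj K).IsGE b :=
        DerivedCategory.TStructure.t.isGE_truncGT_obj _ (b - 1) b (by omega)
      obtain ⟨e⟩ := DerLib.Devissage.nonempty_iso_single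
        ((DerivedCategory.TStructure.t.truncGT (b - 1)).obj K) b
      refine isPC_of_iso e.symm (isPC_single X ?_ b m)
      haveI := DerLib.Devissage.isIso_homology_truncGTπ K (b - 1) b (by omega)
      exact QCohLib.isCoh_of_iso (asIso ((DerivedCategory.homologyFunctor X.Modules b).map
        ((DerivedCategory.TStructure.t.truncGTπ (b - 1)).app K))) (h b)

/-- On a locally Noetherian scheme, bounded above coherent objects are pseudo-coherent. -/
theorem isPC_of_isCohD {X : Scheme.{u}} [IsLocallyNoetherian X] (K : DCoh.D X) (b m : ℤ) [K.IsLE b]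
    (h : DCoh.IsCohD K) : DCoh.IsPseudoCoherentD m K :=
  isPC_of_isCohD_aux ((b - m).toNat + 1) K b m h (by omega)

end Groth.Agent.PerfDualLib
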