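import Groth.Agent.PerfDualLib.Props
import Groth.Agent.PerfLib.PCoh
import Mathlib.Algebra.Homology.Embedding.CochainComplex

/-!
# Internal homs out of pseudo-coherent complexes
-/

set_option autoImplicit false
set_option backward.isDefEq.respectTransparency false
set_option backward.isDefEq.respectTransparency.types false
set_option maxHeartbeats 1000000

universe u

open CategoryTheory CategoryTheory.Limits AlgebraicGeometry HomologicalComplex Pretriangulated
open Groth.Agent.DerLib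

attribute [local instance] HasDerivedCategory.standard

namespace Groth.Agent.PerfDualLib

variable {X : Scheme.{u}}

theorem isZero_sf_tensor_X {V : X.Opens} {C : Cx X} {i N : ℤ} (hC : ∀ q, N < q → IsZero (C.X q))
    (n : ℤ) (hn : i + N < n) : IsZero (((Gen.tR (Tb X) C).obj (sf V i)).X n) := by
  rw [IsZero.iff_id_eq_zero]
  refine mapBifunctor.hom_ext fun p q h => ?_
  have h' : p + q = n := h
  by_cases hp : p = i
  · exact (((Tb X).obj _).map_isZero (hC q (by omega))).eq_of_src _ _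
  · exact (((Tb X).flip.obj _).map_isZero (isZero_single_obj_X _ _ _ _ hp)).eq_of_src _ _

theorem qisOn_ιTruncLE {U : X.Opens} {C : Cx X} {m : ℤ}
    (hC : ∀ y ∈ U, ∀ n : ℤ, m ≤ n → IsZero (((KFlatLib.stalkCx X y).obj C).homology n)) :
    QisOn U (CochainComplex.ιTruncLE C (m - 1)) := fun y hy => by
  refine ⟨fun n => (quasiIsoAt_iff_isIso_homologyMap _ _).2 ?_⟩
  let f := CochainComplex.ιTruncLE C (m - 1)
  by_cases hn : n ≤ m - 1
  · have := CochainComplex.quasiIsoAt_ιTruncLE C (m - 1) n hn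
    have hi : IsIso (HomologicalComplex.homologyMap f n) :=
      (quasiIsoAt_iff_isIso_homologyMap _ _).1 this
    have e := ShortComplex.mapHomologyIso_hom_naturality
      ((HomologicalComplex.shortComplexFunctor _ (ComplexShape.up ℤ) n).map f)
      (DerSch.stalkFunctor X y)
    have : IsIso ((DerSch.stalkFunctor X y).map (HomologicalComplex.homologyMap f n)) :=
      Functor.map_isIso _ _
    have h2 : IsIso (ShortComplex.homologyMap ((DerSch.stalkFunctor X y).mapShortComplex.map
        ((HomologicalComplex.shortComplexFunctor _ (ComplexShape.up ℤ) n).map f))) :=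
      @IsIso.of_isIso_fac_right _ _ _ _ _ _ _ _ inferInstance
        (IsIso.comp_isIso' inferInstance this) e
    exact h2
  · refine IsZero.isIso ?_ (hC y hy n (by omega)) _
    refine IsZero.of_iso ?_ (KFlatLib.stalkHomologyIso _ y n)
    refine (DerSch.stalkFunctor X y).map_isZero ?_
    exact (exactAt_iff_isZero_homology _ _).1
      (ExactAt.of_isZero (CochainComplex.isZero_of_isStrictlyLE _ (m - 1) n (by omega)))

/-- Internal homs out of complexes without cohomology in degrees `≥ m` on `U` have no cohomology in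
low degrees on `U`. -/
theorem isZero_stalk_homology_iG {U : X.Opens} {C : Cx X} (I : Cx X) [I.IsKInjective] (a m : ℤ)
    [(DerivedCategory.Q.obj I).IsGE a]
    (hC : ∀ y ∈ U, ∀ n : ℤ, m ≤ n → IsZero (((KFlatLib.stalkCx X y).obj C).homology n))
    {x : X} (hx : x ∈ U) (i : ℤ) (hi : i + (m - 1) < a) :
    IsZero (((KFlatLib.stalkCx X x).obj (iG C I)).homology i) := by
  refine isZero_stalk_homology hx i fun V hV b => ?_
  let T : Cx X := CochainComplex.truncLE C (m - 1)
  let t : T ⟶ C := CochainComplex.ιTruncLE C (m - 1)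
  haveI := quasiIso_sf_tensor ((qisOn_ιTruncLE hC).mono hV) i
  let u := (Gen.tL (Tb X) (sf V i)).map t
  haveI : IsIso (DerivedCategory.Q.map u) := inferInstance
  haveI : CochainComplex.IsStrictlyLE ((Gen.tL (Tb X) (sf V i)).obj T) (i + (m - 1)) := by
    rw [CochainComplex.isStrictlyLE_iff]
    intro n hn
    exact isZero_sf_tensor_X (C := T) (fun q hq =>
      CochainComplex.isZero_of_isStrictlyLE T (m - 1) q hq) n hn
  haveI : (DerivedCategory.Q.obj ((Gen.tL (Tb X) (sf V i)).obj T)).IsLE (i + (m - 1)) := inferInstance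
  have h0 : DerivedCategory.Q.map u ≫ DerivedCategory.Q.map b = 0 :=
    DerivedCategory.TStructure.t.zero_of_isLE_of_isGE _ (i + (m - 1)) a hi inferInstance inferInstance
  have hb : DerivedCategory.Q.map b = 0 := by
    rw [← cancel_epi (DerivedCategory.Q.map u), h0, comp_zero]
  exact ⟨HomotopyCategory.homotopyOfEq _ 0 ((KInjUse.quotient_eq_zero_of_Q hb).trans
    ((HomotopyCategory.quotient _ _).map_zero _ _).symm)⟩

theorem isZero_HD_gRes {U : X.Opens} {C : Cx X} (I : Cx X) [I.IsKInjective] (a m : ℤ)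
    [(DerivedCategory.Q.obj I).IsGE a]
    (hC : ∀ y ∈ U, ∀ n : ℤ, m ≤ n → IsZero (((KFlatLib.stalkCx X y).obj C).homology n))
    (i : ℤ) (hi : i + (m - 1) < a) : IsZero (DCoh.HD (gRes U I C) i) :=
  ((isZero_rC_homology U (iG C I) i).2 fun _ hx => isZero_stalk_homology_iG I a m hC hx i hi).of_iso
    ((DerivedCategory.homologyFunctor _ i).mapIso
      ((Scheme.Modules.restrictFunctor U.ι).mapDerivedCategoryFactors.app (iG C I)) ≪≫
      (DerivedCategory.homologyFunctorFactors _ i).app _)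

/-- An `m`-pseudo-coherent complex has, near each point, an approximation by free modules. -/
theorem exists_free_approx {K : Cx X} {m : ℤ}
    (hK : DCoh.IsPseudoCoherentD m (DerivedCategory.Q.obj K)) (x : X) :
    ∃ (U : X.Opens) (_ : x ∈ U) (E : Cx (U : Scheme.{u})) (a b : ℤ)
      (α : DerivedCategory.Q.obj E ⟶ DerivedCategory.Q.obj ((rC U).obj K)),
      (∀ i, i < a ∨ b < i → IsZero (E.X i)) ∧ (∀ i, KFlatLib.IsFinFree (E.X i)) ∧
        PerfLib.IAE α m := by
  obtain ⟨V, hx, hV⟩ := hK x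
  obtain ⟨E, α, ⟨⟨a, b, hv⟩, hf⟩, hα⟩ := hV K ⟨Iso.refl _⟩
  choose W n hW hn using fun i => hf i (⟨x, hx⟩ : (V : Scheme.{u}))
  let W₀ : (V : Scheme.{u}).Opens := (Finset.Icc a b).inf W
  have hx₀ : (⟨x, hx⟩ : (V : Scheme.{u})) ∈ W₀ := by
    rw [← SetLike.mem_coe, TopologicalSpace.Opens.coe_finset_inf, Finset.inf_set_eq_iInter]
    exact Set.mem_iInter₂.2 fun i _ => hW i
  have hfree : ∀ i, KFlatLib.IsFinFree ((PerfLib.res W₀.ι).obj (E.X i)) := fun i => by
    by_cases hi : i ∈ Finset.Icc a b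
    · exact PerfLib.isFinFree_res_le (Finset.inf_le hi) ⟨n i, hn i⟩
    · refine KFlatLib.isFinFree_of_isZero ((PerfLib.res W₀.ι).map_isZero (hv i ?_))
      rw [Finset.mem_Icc] at hi
      omega
  let j := W₀.ι ≫ V.ι
  let g := (Scheme.Hom.isoOpensRange j).inv
  obtain ⟨c₁⟩ := PerfLib.nonempty_resD_comp W₀.ι V.ι (DerivedCategory.Q.obj K)
  obtain ⟨c₂⟩ := PerfLib.nonempty_resD_comp g j (DerivedCategory.Q.obj K)
  obtain ⟨c₃⟩ := PerfLib.nonempty_resD_congr (Scheme.Hom.isoOpensRange_inv_comp j)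
    (DerivedCategory.Q.obj K)
  refine ⟨j.opensRange, ⟨⟨⟨x, hx⟩, hx₀⟩, rfl⟩, (PerfLib.resC g).obj ((PerfLib.resC W₀.ι).obj E), a, b,
    (PerfLib.resDQIso g _).inv ≫ (PerfLib.resD g).map ((PerfLib.resDQIso W₀.ι E).inv ≫
      (PerfLib.resD W₀.ι).map (α ≫ (PerfLib.resDQIso V.ι K).inv) ≫ c₁.inv) ≫
        c₂.inv ≫ c₃.hom ≫ (PerfLib.resDQIso _ K).hom,
    fun i hi => (PerfLib.res g).map_isZero ((PerfLib.res W₀.ι).map_isZero (hv i hi)),
    fun i => PerfLib.isFinFree_res g (hfree i), ?_⟩
  open PerfLib.IAE in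
  exact (of_isIso _ m).comp ((((of_isIso _ m).comp (((PerfLib.IAE.comp hα (of_isIso _ m)).map (PerfLib.res W₀.ι)).comp
    (of_isIso _ m))).map (PerfLib.res g)).comp
      ((of_isIso _ m).comp ((of_isIso _ m).comp (of_isIso _ m))))

theorem isZero_HD_cone {Y : Scheme.{u}} {A B : Cx Y} (f : A ⟶ B) {m : ℤ}
    (hf : PerfLib.IAE (DerivedCategory.Q.map f) m) (n : ℤ) (hn : m ≤ n) :
    IsZero ((CochainComplex.mappingCone f).homology n) := by
  refine IsZero.of_iso ?_ ((DerivedCategory.homologyFunctorFactors Y.Modules n).app _).symm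
  let T := DerivedCategory.Q.mapTriangle.obj (CochainComplex.mappingCone.triangle f)
  have hT : T ∈ distinguishedTriangles := DerivedCategory.mappingCone_triangle_distinguished f
  have h1 : Epi ((DerivedCategory.homologyFunctor Y.Modules n).map T.mor₁) := by
    rcases hn.eq_or_lt with rfl | h
    · exact hf.2
    · haveI := hf.1 n h
      exact inferInstanceAs (Epi ((DerivedCategory.homologyFunctor Y.Modules n).map
        (DerivedCategory.Q.map f)))
  have h2 : Mono ((DerivedCategory.homologyFunctor Y.Modules (n + 1)).map T.mor₁) := by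
    haveI := hf.1 (n + 1) (by omega)
    exact inferInstanceAs (Mono ((DerivedCategory.homologyFunctor Y.Modules (n + 1)).map
      (DerivedCategory.Q.map f)))
  have hw : (DerivedCategory.homologyFunctor Y.Modules n).map T.mor₁ ≫
      (DerivedCategory.homologyFunctor Y.Modules n).map T.mor₂ = 0 := by
    rw [← Functor.map_comp, comp_distTriang_mor_zero₁₂ T hT, Functor.map_zero]
  have g₀ : (DerivedCategory.homologyFunctor Y.Modules n).map T.mor₂ = 0 := by
    haveI := h1
    rw [← cancel_epi ((DerivedCategory.homologyFunctor Y.Modules n).map T.mor₁), hw, comp_zero]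
  have δ₀ : DerivedCategory.HomologySequence.δ T n (n + 1) rfl = 0 := by
    haveI := h2
    rw [← cancel_mono ((DerivedCategory.homologyFunctor Y.Modules (n + 1)).map T.mor₁), zero_comp]
    exact DerivedCategory.HomologySequence.δ_comp T hT n (n + 1) rfl
  exact (DerivedCategory.HomologySequence.exact₃ T hT n (n + 1) rfl).isZero_of_both_zeros g₀ δ₀

variable (R : ∀ U : X.Opens, ObjectProperty (U : Scheme.{u}).Modules)
  [∀ U, WSerre.IsWeakSerre (R U)]

/-- Low-degree cohomology of the internal hom out of an `m`-pseudo-coherent complex. -/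
theorem prop_gRes_of_isPC {K : Cx X} {m : ℤ}
    (hK : DCoh.IsPseudoCoherentD m (DerivedCategory.Q.obj K)) (I : Cx X) [I.IsKInjective] (a : ℤ)
    [(DerivedCategory.Q.obj I).IsGE a]
    (hI : ∀ U : X.Opens, WSerre.cohIn (R U) ((DCoh.restrictD U.ι).obj (DerivedCategory.Q.obj I)))
    (x : X) :
    ∃ (U : X.Opens) (_ : x ∈ U), ∀ i, i < a - m → R U (DCoh.HD (gRes U I K) i) := by
  obtain ⟨U, hx, E, a', b', α, hv, hf, hα⟩ := exists_free_approx hK x
  refine ⟨U, hx, fun i hi => ?_⟩
  haveI := PerfCompLib.preservesFiniteLimits_extZero U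
  obtain ⟨Z, s, hs, g, hg⟩ := DerivedCategory.right_fac α
  haveI : QuasiIso s := (DerivedCategory.isIso_Q_map_iff_quasiIso _ s).1 hs
  let hL := loc_gRes (triClosed_cohIn U (R U)) I (hI U)
  have hZ : WSerre.cohIn (R U) (gRes U I ((jC U).obj Z)) :=
    (hL.qis ((jC U).map s) (QisOn.of_quasiIso U _)).2 (hL.prop_bounded E a' b' hv hf)
  let t : (jC U).obj Z ⟶ K := ((cadj U).homEquiv Z K).symm g
  have ht : (cadj U).unit.app Z ≫ (rC U).map t = g :=
    ((cadj U).homEquiv_unit _ _ _).symm.trans (Equiv.apply_symm_apply _ g)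
  have hiae : PerfLib.IAE (DerivedCategory.Q.map ((rC U).map t)) m := by
    haveI := isIso_cadj_unit U Z
    have h1 : DerivedCategory.Q.map ((rC U).map t) =
        inv (DerivedCategory.Q.map ((cadj U).unit.app Z)) ≫ DerivedCategory.Q.map s ≫ α := by
      rw [IsIso.eq_inv_comp, ← Functor.map_comp, ht, hg, IsIso.hom_inv_id_assoc]
    rw [h1]
    exact (PerfLib.IAE.of_isIso _ m).comp ((PerfLib.IAE.of_isIso _ m).comp hα)
  let C := CochainComplex.mappingCone t
  have hC : ∀ y ∈ U, ∀ n : ℤ, m ≤ n → IsZero (((KFlatLib.stalkCx X y).obj C).homology n) :=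
    fun y hy n hn => (isZero_rC_homology U C n).1 ((isZero_HD_cone _ hiae n hn).of_iso
      ((HomologicalComplex.homologyFunctor _ _ n).mapIso
        (CochainComplex.mappingCone.mapHomologicalComplexIso t (Scheme.Modules.restrictFunctor U.ι)))) y hy
  let S := CochainComplex.mappingCone.triangleRotateShortComplex t
  let hS : KFlatLib.DegSplit S := CochainComplex.mappingCone.triangleRotateShortComplexSplitting t
  have hZ1 : WSerre.cohIn (R U) (gRes U I S.X₃) :=
    hL.ext₃ (S := CochainComplex.mappingCone.triangleRotateShortComplex (𝟙 ((jC U).obj Z)))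
      (CochainComplex.mappingCone.triangleRotateShortComplexSplitting (𝟙 ((jC U).obj Z)))
      hZ (hL.contractible (KFlatLib.coneIdContractible _))
  obtain ⟨δ, hT⟩ := exists_triangle U (Gen.shortExact_G (T := Tb X) hS I)
  refine Groth.Agent.DerLib.WeakSerreTri.prop_of_five_exact (R U)
    (DerivedCategory.HomologySequence.exact₂ _ hT i)
    (DerivedCategory.HomologySequence.exact₃ _ hT i (i + 1) rfl)
    (DerivedCategory.HomologySequence.exact₁ _ hT i (i + 1) rfl) (hZ1 i) ?_ (hZ1 (i + 1)) ?_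
  · exact (R U).prop_of_isZero (isZero_HD_gRes I a m hC i (by omega))
  · exact (R U).prop_of_isZero (isZero_HD_gRes I a m hC (i + 1) (by omega))

theorem isQCoh_HD_rSheafHom_of_isPC (K : Cx X) {m : ℤ}
    (hK : DCoh.IsPseudoCoherentD m (DerivedCategory.Q.obj K)) [DCoh.HasLTensorCx K]
    [DCoh.HasRSheafHom K] (L : DCoh.D X) (hL : DCoh.IsQCohD L) (a : ℤ) [L.IsGE a]
    (i : ℤ) (hi : i < a - m) : Coh.IsQCoh (DCoh.HD ((DCoh.RSheafHom K).obj L) i) := by
  obtain ⟨I, hI, ⟨e⟩⟩ := KInjUse.exists_iso_Q_kInjective L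
  haveI : (DerivedCategory.Q.obj I).IsGE a := DerivedCategory.TStructure.t.isGE_of_iso e a
  obtain ⟨f⟩ := nonempty_rSheafHom_iso K I e.symm
  haveI := fun U : X.Opens => isWeakSerre_isQCoh (Y := (U : Scheme.{u}))
  have h : ∀ x : X, ∃ (U : X.Opens) (_ : x ∈ U),
      ∀ i, i < a - m → Coh.IsQCoh (DCoh.HD (gRes U I K) i) :=
    prop_gRes_of_isPC (fun U => fun M : (U : Scheme.{u}).Modules => Coh.IsQCoh M) hK I a
      fun U => (triClosed_isQCohD U).iso ((DCoh.restrictD U.ι).mapIso e) (isQCohD_restrictD hL U)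
  choose U hU hq using h
  exact QCohLib.isQCoh_of_cover _ U (eq_top_iff.2 fun p _ => TopologicalSpace.Opens.mem_iSup.2 ⟨p, hU p⟩)
    fun p =>
      haveI := hq p i hi
      QCohLib.isQCoh_of_iso ((DerivedCategory.homologyFunctor _ i).mapIso
        ((DCoh.restrictD (U p).ι).mapIso f.symm) ≪≫ DCohRestrLib.restrictHDIso (U p).ι _ i)

theorem isCoh_HD_rSheafHom_of_isPC [IsLocallyNoetherian X] (K : Cx X) {m : ℤ}
    (hK : DCoh.IsPseudoCoherentD m (DerivedCategory.Q.obj K)) [DCoh.HasLTensorCx K]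
    [DCoh.HasRSheafHom K] (L : DCoh.D X) (hL : DCoh.IsCohD L) (a : ℤ) [L.IsGE a]
    (i : ℤ) (hi : i < a - m) : Coh.IsCoh (DCoh.HD ((DCoh.RSheafHom K).obj L) i) := by
  obtain ⟨I, hI, ⟨e⟩⟩ := KInjUse.exists_iso_Q_kInjective L
  haveI : (DerivedCategory.Q.obj I).IsGE a := DerivedCategory.TStructure.t.isGE_of_iso e a
  obtain ⟨f⟩ := nonempty_rSheafHom_iso K I e.symm
  haveI := fun U : X.Opens => isLocallyNoetherian_of_isOpenImmersion U.ι
  haveI := fun U : X.Opens => KHeartLib.isWeakSerre_isCoh (X := (U : Scheme.{u}))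
  have h : ∀ x : X, ∃ (U : X.Opens) (_ : x ∈ U),
      ∀ i, i < a - m → Coh.IsCoh (DCoh.HD (gRes U I K) i) :=
    prop_gRes_of_isPC (fun U => fun M : (U : Scheme.{u}).Modules => Coh.IsCoh M) hK I a
      fun U => (triClosed_isCohD U).iso ((DCoh.restrictD U.ι).mapIso e) (isCohD_restrictD hL U)
  choose U hU hq using h
  exact PerfLib.isCoh_of_cover _ U (eq_top_iff.2 fun p _ => TopologicalSpace.Opens.mem_iSup.2 ⟨p, hU p⟩)
    fun p => QCohLib.isCoh_of_iso ((DerivedCategory.homologyFunctor _ i).mapIso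
        ((DCoh.restrictD (U p).ι).mapIso f.symm) ≪≫ DCohRestrLib.restrictHDIso (U p).ι _ i) (hq p i hi)

theorem isGE_rSheafHom (K : Cx X) (b : ℤ) [(DerivedCategory.Q.obj K).IsLE b] [DCoh.HasLTensorCx K]
    [DCoh.HasRSheafHom K] (L : DCoh.D X) (a : ℤ) [L.IsGE a] :
    ((DCoh.RSheafHom K).obj L).IsGE (a - b) := by
  obtain ⟨I, hI, ⟨e⟩⟩ := KInjUse.exists_iso_Q_kInjective L
  haveI : (DerivedCategory.Q.obj I).IsGE a := DerivedCategory.TStructure.t.isGE_of_iso e a
  obtain ⟨f⟩ := nonempty_rSheafHom_iso K I e.symm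
  rw [DerivedCategory.isGE_iff]
  intro i hi
  refine IsZero.of_iso ?_ ((DerivedCategory.homologyFunctor _ i).mapIso f ≪≫
    (DerivedCategory.homologyFunctorFactors _ i).app _)
  refine (KFlatLib.isZero_homology_iff _ i).2 fun x => ?_
  refine isZero_stalk_homology_iG (U := ⊤) I a (b + 1) (fun y _ n hn => ?_) (x := x) trivial i (by omega)
  refine (KFlatLib.isZero_homology_iff _ n).1 ?_ y
  exact (DerivedCategory.isZero_of_isLE (DerivedCategory.Q.obj K) b n (by omega)).of_iso
    ((DerivedCategory.homologyFunctorFactors _ n).app K).symm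

end Groth.Agent.PerfDualLib
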