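import Groth.Agent.PerfDualLib.EvalLoc

/-!
# The dual of a perfect complex
-/

set_option autoImplicit false
set_option backward.isDefEq.respectTransparency false
set_option backward.isDefEq.respectTransparency.types false
set_option maxHeartbeats 1000000

universe u

open CategoryTheory CategoryTheory.Limits AlgebraicGeometry HomologicalComplex
open Groth.Agent.DerLib

attribute [local instance] HasDerivedCategory.standard

namespace Groth.Agent.PerfDualLib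

variable {X : Scheme.{u}}

theorem isStrictlyPerfect_unitCx (X : Scheme.{u}) : DCoh.IsStrictlyPerfect (unitCx X) := by
  refine ⟨⟨0, 0, fun i hi => isZero_single_obj_X _ _ _ _ (by omega)⟩, fun i => ?_⟩
  refine KFlatLib.isFinLocFree_of_isFinFree ?_
  by_cases hi : i = 0
  · subst hi
    exact KFlatLib.isFinFree_of_iso
      (singleObjXSelf (ComplexShape.up ℤ) 0 (Coh.structureModule X)).symm
      ⟨1, ⟨(coproductUniqueIso (fun _ : Fin 1 => Coh.structureModule X)).symm⟩⟩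
  · exact KFlatLib.isFinFree_of_isZero (isZero_single_obj_X _ _ _ _ hi)

theorem isPerfect_restrict_unit (U : X.Opens) :
    DCoh.IsPerfect ((DCoh.restrictD U.ι).obj (DerivedCategory.Q.obj (unitCx X))) :=
  fun _ => ⟨⊤, trivial, fun F ⟨e⟩ => ⟨_,
    PerfLib.isStrictlyPerfect_res (⊤ : (U : Scheme.{u}).Opens).ι
      (PerfLib.isStrictlyPerfect_res U.ι (isStrictlyPerfect_unitCx X)),
    ⟨(PerfLib.resDQIso _ F).symm ≪≫ (PerfLib.resD _).mapIso (e ≪≫ PerfLib.resDQIso U.ι _) ≪≫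
      PerfLib.resDQIso _ _⟩⟩⟩

theorem isPerfect_of_local {L : DCoh.D X}
    (h : ∀ x : X, ∃ (U : X.Opens) (_ : x ∈ U), DCoh.IsPerfect ((DCoh.restrictD U.ι).obj L)) :
    DCoh.IsPerfect L := by
  rw [PerfLib.isPerfect_iff]
  intro x
  obtain ⟨U, hx, hU⟩ := h x
  obtain ⟨V, j, hj, v, hv, E, hE, ⟨e⟩⟩ := (PerfLib.isPerfect_iff _).1 hU ⟨x, hx⟩
  obtain ⟨c⟩ := PerfLib.nonempty_resD_comp j U.ι L
  refine ⟨V, j ≫ U.ι, inferInstance, v, ?_, E, hE, ⟨c ≪≫ e⟩⟩
  change U.ι (j v) = x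
  rw [hv]
  rfl

/-- A K-injective model of an isomorphism class receives a quasi-isomorphism. -/
theorem exists_quasiIso {P J : Cx X} [J.IsKInjective]
    (e : DerivedCategory.Q.obj P ≅ DerivedCategory.Q.obj J) :
    ∃ q : P ⟶ J, QuasiIso q ∧ DerivedCategory.Q.map q = e.hom := by
  obtain ⟨q, hq⟩ := KInjUse.Q_map_surjective P J e.hom
  haveI : IsIso (DerivedCategory.Q.map q) := by rw [hq]; infer_instance
  exact ⟨q, (DerivedCategory.isIso_Q_map_iff_quasiIso _ q).1 inferInstance, hq⟩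

/-- Every object has a K-flat model. -/
theorem exists_kFlat_model (M : DCoh.D X) :
    ∃ P : Cx X, DCoh.IsKFlat P ∧ Nonempty (DerivedCategory.Q.obj P ≅ M) := by
  let K := DerivedCategory.Q.objPreimage M
  haveI := KFlatLib.quasiIso_resψ (X := X) K
  exact ⟨(KFlatLib.resP X).obj K, (KFlatLib.good_resP K).1,
    ⟨asIso (DerivedCategory.Q.map ((KFlatLib.resψ X).app K)) ≪≫
      DerivedCategory.Q.objObjPreimageIso M⟩⟩

/-- Tensoring a K-flat complex with isomorphic objects. -/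
theorem nonempty_tL_congr {M K K' : Cx X} (hM : DCoh.IsKFlat M)
    (e : DerivedCategory.Q.obj K ≅ DerivedCategory.Q.obj K') :
    Nonempty (DerivedCategory.Q.obj (Gen.t2 (Tb X) M K) ≅
      DerivedCategory.Q.obj (Gen.t2 (Tb X) M K')) := by
  obtain ⟨P, s, hs, g, hg⟩ := DerivedCategory.right_fac e.hom
  haveI : QuasiIso s := (DerivedCategory.isIso_Q_map_iff_quasiIso _ s).1 hs
  haveI : IsIso (DerivedCategory.Q.map g) := by
    have : DerivedCategory.Q.map g = DerivedCategory.Q.map s ≫ e.hom := by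
      rw [hg, IsIso.hom_inv_id_assoc]
    rw [this]
    infer_instance
  haveI : QuasiIso g := (DerivedCategory.isIso_Q_map_iff_quasiIso _ g).1 ‹_›
  haveI := quasiIso_tL_of_kFlat hM s
  haveI := quasiIso_tL_of_kFlat hM g
  exact ⟨(asIso (DerivedCategory.Q.map (((DCoh.tensorCx (X := X)).obj M).map s))).symm ≪≫
    asIso (DerivedCategory.Q.map (((DCoh.tensorCx (X := X)).obj M).map g))⟩

/-- The dual of a perfect complex is perfect. -/
theorem isPerfect_dual (K : Cx X) (hK : DCoh.IsPerfect (DerivedCategory.Q.obj K))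
    [DCoh.HasLTensorCx K] [DCoh.HasRSheafHom K] :
    DCoh.IsPerfect ((DCoh.RSheafHom K).obj (DerivedCategory.Q.obj (unitCx X))) := by
  obtain ⟨J, hJ, ⟨e⟩⟩ := KInjUse.exists_iso_Q_kInjective (DerivedCategory.Q.obj (unitCx X))
  obtain ⟨f⟩ := nonempty_rSheafHom_iso K J e.symm
  refine isPerfect_of_local fun x => ?_
  obtain ⟨U, hx, h⟩ := prop_gRes_of_isPerfect hK J (fun U => DCoh.IsPerfect) triClosed_isPerfect
    (fun U => (triClosed_isPerfect U).iso ((DCoh.restrictD U.ι).mapIso e)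
      (isPerfect_restrict_unit U)) x
  exact ⟨U, hx, (triClosed_isPerfect U).iso ((DCoh.restrictD U.ι).mapIso f.symm) h⟩

/-- `M ⊗ K^∨ ≅ RHom(K, M)`. -/
theorem nonempty_lTensor_dual (K : Cx X) (hK : DCoh.IsPerfect (DerivedCategory.Q.obj K))
    [DCoh.HasLTensorCx K] [DCoh.HasRSheafHom K] (D : Cx X)
    (eD : DerivedCategory.Q.obj D ≅ (DCoh.RSheafHom K).obj (DerivedCategory.Q.obj (unitCx X)))
    [DCoh.HasLTensorCx D] (M : DCoh.D X) :
    Nonempty ((DCoh.LTensorCx D).obj M ≅ (DCoh.RSheafHom K).obj M) := by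
  obtain ⟨J, hJ, ⟨eJ⟩⟩ := KInjUse.exists_iso_Q_kInjective (DerivedCategory.Q.obj (unitCx X))
  obtain ⟨fJ⟩ := nonempty_rSheafHom_iso K J eJ.symm
  obtain ⟨I, hI, ⟨eI⟩⟩ := KInjUse.exists_iso_Q_kInjective M
  obtain ⟨fI⟩ := nonempty_rSheafHom_iso K I eI.symm
  obtain ⟨M', hM', ⟨eM⟩⟩ := exists_kFlat_model M
  obtain ⟨q, hq, -⟩ := exists_quasiIso eJ
  haveI := quasiIso_tL_of_kFlat hM' q
  obtain ⟨f₀, hf₀, -⟩ := exists_quasiIso (P := Gen.t2 (Tb X) M' J) (J := I)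
    ((asIso (DerivedCategory.Q.map (((DCoh.tensorCx (X := X)).obj M').map q))).symm ≪≫
      DerivedCategory.Q.mapIso (unitNat.app M') ≪≫ eM ≪≫ eI)
  haveI := quasiIso_eval₁ hM' f₀ hK
  obtain ⟨c⟩ := nonempty_tL_congr hM' (eD ≪≫ fJ)
  haveI := TensorAssocLib.isIso_cnt_of_kFlat D M' hM'
  exact ⟨(DCoh.LTensorCx D).mapIso eM.symm ≪≫ asIso ((TensorAssocLib.cnt D).app M') ≪≫ c ≪≫
    asIso (DerivedCategory.Q.map (Gen.eval₁ (aX X) f₀ K)) ≪≫ fI.symm⟩

/-- `RHom(L, M) ⊗ K ≅ RHom(RHom(K, L), M)`. -/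
theorem nonempty_lTensor_rSheafHom (K L : Cx X) (hK : DCoh.IsPerfect (DerivedCategory.Q.obj K))
    [DCoh.HasLTensorCx K] [DCoh.HasRSheafHom K] [DCoh.HasLTensorCx L] [DCoh.HasRSheafHom L]
    (D : Cx X)
    (eD : DerivedCategory.Q.obj D ≅ (DCoh.RSheafHom K).obj (DerivedCategory.Q.obj L))
    [DCoh.HasLTensorCx D] [DCoh.HasRSheafHom D] (M : DCoh.D X) :
    Nonempty ((DCoh.LTensorCx K).obj ((DCoh.RSheafHom L).obj M) ≅ (DCoh.RSheafHom D).obj M) := by
  obtain ⟨J, hJ, ⟨eJ⟩⟩ := KInjUse.exists_iso_Q_kInjective (DerivedCategory.Q.obj L)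
  obtain ⟨fJ⟩ := nonempty_rSheafHom_iso K J eJ.symm
  obtain ⟨I, hI, ⟨eI⟩⟩ := KInjUse.exists_iso_Q_kInjective M
  obtain ⟨fL⟩ := nonempty_rSheafHom_iso L I eI.symm
  obtain ⟨fD⟩ := nonempty_rSheafHom_iso D I eI.symm
  obtain ⟨gL⟩ := nonempty_iG_congr eJ I
  obtain ⟨gD⟩ := nonempty_iG_congr (eD ≪≫ fJ) I
  let N := (KFlatLib.resP X).obj (iG J I)
  let f : N ⟶ iG J I := (KFlatLib.resψ X).app (iG J I)
  haveI : QuasiIso f := KFlatLib.quasiIso_resψ _
  have hN : DCoh.IsKFlat N := (KFlatLib.good_resP _).1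
  haveI := quasiIso_eval₂ hN f hK
  haveI := TensorAssocLib.isIso_cnt_of_kFlat K N hN
  exact ⟨(DCoh.LTensorCx K).mapIso (fL ≪≫ gL ≪≫ (asIso (DerivedCategory.Q.map f)).symm) ≪≫
    asIso ((TensorAssocLib.cnt K).app N) ≪≫
    asIso (DerivedCategory.Q.map (Gen.eval₂ (aX X) bX (Gen.adjunct f) K)) ≪≫ gD.symm ≪≫ fD.symm⟩

end Groth.Agent.PerfDualLib
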