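import Groth.Agent.KFlatLib.Generic
import Mathlib.Algebra.Homology.Double
import Mathlib.Algebra.Homology.HomotopyCategory.DegreewiseSplit

/-!
# Extending null-homotopic maps along degreewise split monomorphisms
-/

set_option autoImplicit false
set_option backward.isDefEq.respectTransparency false
set_option backward.isDefEq.respectTransparency.types false

open CategoryTheory CategoryTheory.Limits HomologicalComplex
open CochainComplex (mappingCone)

namespace Groth.Agent.PerfDualLib

variable {A : Type*} [Category* A] [Abelian A]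

/-- Postcomposing a null homotopy. -/
noncomputable def nullComp {K L M : CochainComplex A ℤ} {a : K ⟶ L} (h : Homotopy a 0) (b : L ⟶ M) :
    Homotopy (a ≫ b) 0 :=
  (h.compRight b).trans (Homotopy.ofEq zero_comp)

/-- Precomposing a null homotopy. -/
noncomputable def compNull {K L M : CochainComplex A ℤ} {a : L ⟶ M} (h : Homotopy a 0) (b : K ⟶ L) :
    Homotopy (b ≫ a) 0 :=
  (h.compLeft b).trans (Homotopy.ofEq comp_zero)

/-- Maps out of a contractible complex are null homotopic. -/
noncomputable def nullOfContractible {W L : CochainComplex A ℤ} (hW : Homotopy (𝟙 W) 0) (a : W ⟶ L) :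
    Homotopy a 0 :=
  (Homotopy.ofEq (Category.id_comp a).symm).trans (nullComp hW a)

/-- A null homotopic map extends along a degreewise split monomorphism. -/
theorem exists_extension {S : ShortComplex (CochainComplex A ℤ)} (h : KFlatLib.DegSplit S)
    {I : CochainComplex A ℤ} (a : S.X₁ ⟶ I) (ha : Homotopy a 0) :
    ∃ ψ : S.X₂ ⟶ I, S.f ≫ ψ = a := by
  refine ⟨Homotopy.nullHomotopicMap' fun i j _ => (h i).r ≫ ha.hom i j, ?_⟩
  rw [Homotopy.comp_nullHomotopicMap']
  ext n : 1
  have hc := ha.comm n
  rw [zero_f, add_zero] at hc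
  rw [hc, dNext_eq _ (show (ComplexShape.up ℤ).Rel n (n + 1) from rfl),
    prevD_eq _ (show (ComplexShape.up ℤ).Rel (n - 1) n by simp),
    Homotopy.nullHomotopicMap'_f (show (ComplexShape.up ℤ).Rel (n - 1) n by simp)
      (show (ComplexShape.up ℤ).Rel n (n + 1) from rfl)]
  congr 1
  · congr 1
    exact (Category.assoc _ _ _).symm.trans
      ((congrArg (· ≫ _) (h (n + 1)).f_r).trans (Category.id_comp _))
  · congr 1
    exact (Category.assoc _ _ _).symm.trans
      ((congrArg (· ≫ _) (h n).f_r).trans (Category.id_comp _))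

/-- The elementary contractible complex `N = N` in degrees `n`, `n + 1`. -/
noncomputable abbrev disk (N : A) (n : ℤ) : CochainComplex A ℤ :=
  double (𝟙 N) (show (ComplexShape.up ℤ).Rel n (n + 1) from rfl)

/-- The elementary complexes are contractible. -/
noncomputable def diskContractible (N : A) (n : ℤ) : Homotopy (𝟙 (disk N n)) 0 := by
  let hr : (ComplexShape.up ℤ).Rel n (n + 1) := rfl
  let hom : ∀ i j, (ComplexShape.up ℤ).Rel j i → ((disk N n).X i ⟶ (disk N n).X j) := fun i j _ =>
    if h : i = n + 1 ∧ j = n then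
      eqToHom (by rw [h.1]) ≫ (doubleXIso₁ (𝟙 N) hr (by omega)).hom ≫
        (doubleXIso₀ (𝟙 N) hr).inv ≫ eqToHom (by rw [h.2])
    else 0
  refine (Homotopy.ofEq ?_).trans (Homotopy.nullHomotopy' hom)
  apply from_double_hom_ext
  · rw [Homotopy.nullHomotopicMap'_f (show (ComplexShape.up ℤ).Rel (n - 1) n by simp) hr]
    simp only [hom, id_f, and_self, ↓reduceDIte, eqToHom_refl, Category.id_comp, Category.comp_id,
      show ¬((n = n + 1) ∧ (n - 1 = n)) by omega, zero_comp, add_zero]
    rw [double_d (𝟙 N) hr (by omega)]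
    simp
  · rw [Homotopy.nullHomotopicMap'_f hr (show (ComplexShape.up ℤ).Rel (n + 1) (n + 1 + 1) from rfl)]
    simp only [hom, id_f, and_self, ↓reduceDIte, eqToHom_refl, Category.id_comp, Category.comp_id,
      show ¬((n + 1 + 1 = n + 1) ∧ (n + 1 = n)) by omega, comp_zero, zero_add]
    rw [double_d (𝟙 N) hr (by omega)]
    simp

/-- The map out of an elementary complex given by an element. -/
theorem exists_hom_disk {N : A} {n : ℤ} {C : CochainComplex A ℤ} (x : N ⟶ C.X n) :
    ∃ φ : disk N n ⟶ C, (doubleXIso₀ (𝟙 N) (show (ComplexShape.up ℤ).Rel n (n + 1) from rfl)).inv ≫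
      φ.f n = x := by
  have h0 : n ≠ n + 1 := by omega
  refine ⟨mkHomFromDouble (show (ComplexShape.up ℤ).Rel n (n + 1) from rfl) h0 x (x ≫ C.d n (n + 1))
    (Category.id_comp _).symm (fun k _ => by rw [Category.assoc, d_comp_d, comp_zero]), ?_⟩
  rw [mkHomFromDouble_f₀]
  exact Iso.inv_hom_id_assoc _ _

/-- Every map of complexes factors as a degreewise split monomorphism followed by a projection with
contractible kernel. -/
theorem exists_degSplit_factor {F G : CochainComplex A ℤ} (g : F ⟶ G) :
    ∃ (W Q : CochainComplex A ℤ) (i : F ⟶ W ⊞ G) (p : W ⊞ G ⟶ Q) (h : i ≫ p = 0),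
      Nonempty (Homotopy (𝟙 W) 0) ∧ Nonempty (KFlatLib.DegSplit (ShortComplex.mk i p h)) ∧
        i ≫ biprod.snd = g := by
  let W : CochainComplex A ℤ := CochainComplex.mappingCone (𝟙 F)
  let i : F ⟶ W ⊞ G := biprod.lift (CochainComplex.mappingCone.inr (𝟙 F)) g
  have hm : Mono i := by
    constructor
    intro Z a b h
    have h' := congr_arg (· ≫ (biprod.fst : W ⊞ G ⟶ W)) h
    simp only [i, Category.assoc, biprod.lift_fst] at h'
    ext m
    have := congr_arg (fun t => Hom.f t m ≫
      (CochainComplex.mappingCone.snd (𝟙 F)).v m m (add_zero m)) h'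
    simp only [comp_f, Category.assoc, CochainComplex.mappingCone.inr_f_snd_v,
      Category.comp_id] at this
    exact this
  let S₂ : ShortComplex (CochainComplex A ℤ) := ShortComplex.mk i (cokernel.π i) (cokernel.condition i)
  have hS₂ : KFlatLib.DegSplit S₂ := fun n =>
    ShortComplex.Splitting.ofExactOfRetraction _
      ((ShortComplex.exact_of_g_is_cokernel S₂ (cokernelIsCokernel i)).map_of_mono_of_preservesKernel
        (eval A (ComplexShape.up ℤ) n) hm inferInstance)
      ((biprod.fst : W ⊞ G ⟶ W).f n ≫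
        (CochainComplex.mappingCone.snd (𝟙 F)).v n n (add_zero n))
      (by
        change i.f n ≫ _ ≫ _ = 𝟙 _
        rw [← Category.assoc, ← comp_f, biprod.lift_fst,
          CochainComplex.mappingCone.inr_f_snd_v])
      (by
        change Epi ((eval A (ComplexShape.up ℤ) n).map (cokernel.π i))
        infer_instance)
  exact ⟨W, cokernel i, i, cokernel.π i, cokernel.condition i, ⟨KFlatLib.coneIdContractible F⟩,
    ⟨hS₂⟩, biprod.lift_snd _ _⟩

end Groth.Agent.PerfDualLib
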