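import Mathlib.Algebra.Homology.HomologySequenceLemmas
import Mathlib.Algebra.Homology.HomologicalComplexAbelian

/-!
# Quasi-isomorphisms in maps of short exact sequences of complexes
-/

set_option autoImplicit false
set_option backward.isDefEq.respectTransparency false
set_option backward.isDefEq.respectTransparency.types false

open CategoryTheory CategoryTheory.Limits HomologicalComplex ComposableArrows Abelian
open HomologicalComplex.HomologySequence

namespace Groth.Agent.PerfDualLib

variable {C : Type*} [Category* C] [Abelian C]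
  {S₁ S₂ : ShortComplex (CochainComplex C ℤ)} (φ : S₁ ⟶ S₂) (hS₁ : S₁.ShortExact) (hS₂ : S₂.ShortExact)

include hS₁ hS₂

theorem quasiIso_τ₁ (h₂ : QuasiIso φ.τ₂) (h₃ : QuasiIso φ.τ₃) : QuasiIso φ.τ₁ := by
  refine ⟨fun j => (quasiIsoAt_iff_isIso_homologyMap _ _).2 ?_⟩
  have hij : (ComplexShape.up ℤ).Rel (j - 1) j := by simp
  let ψ := mapComposableArrows₅ φ hS₁ hS₂ (j - 1) j hij
  haveI : Mono (homologyMap φ.τ₁ j) := by
    apply mono_of_epi_of_mono_of_mono ((δ₀Functor ⋙ δlastFunctor).map ψ)
    · exact (composableArrows₅_exact hS₁ (j - 1) j hij).δ₀.δlast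
    · exact (composableArrows₅_exact hS₂ (j - 1) j hij).δ₀.δlast
    · change Epi (homologyMap φ.τ₂ (j - 1)); infer_instance
    · change Mono (homologyMap φ.τ₃ (j - 1)); infer_instance
    · change Mono (homologyMap φ.τ₂ j); infer_instance
  haveI : Epi (homologyMap φ.τ₁ j) := by
    apply epi_of_epi_of_epi_of_mono ((δ₀Functor ⋙ δ₀Functor).map ψ)
    · exact (composableArrows₅_exact hS₁ (j - 1) j hij).δ₀.δ₀
    · exact (composableArrows₅_exact hS₂ (j - 1) j hij).δ₀.δ₀
    · change Epi (homologyMap φ.τ₃ (j - 1)); infer_instance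
    · change Epi (homologyMap φ.τ₂ j); infer_instance
    · change Mono (homologyMap φ.τ₃ j); infer_instance
  exact isIso_of_mono_of_epi _

theorem quasiIso_τ₂ (h₁ : QuasiIso φ.τ₁) (h₃ : QuasiIso φ.τ₃) : QuasiIso φ.τ₂ := by
  refine ⟨fun i => (quasiIsoAt_iff_isIso_homologyMap _ _).2 ?_⟩
  have hij : (ComplexShape.up ℤ).Rel i (i + 1) := rfl
  have hki : (ComplexShape.up ℤ).Rel (i - 1) i := by simp
  haveI : Mono (homologyMap φ.τ₂ i) := by
    apply mono_of_epi_of_mono_of_mono
      ((δ₀Functor ⋙ δ₀Functor).map (mapComposableArrows₅ φ hS₁ hS₂ (i - 1) i hki))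
    · exact (composableArrows₅_exact hS₁ (i - 1) i hki).δ₀.δ₀
    · exact (composableArrows₅_exact hS₂ (i - 1) i hki).δ₀.δ₀
    · change Epi (homologyMap φ.τ₃ (i - 1)); infer_instance
    · change Mono (homologyMap φ.τ₁ i); infer_instance
    · change Mono (homologyMap φ.τ₃ i); infer_instance
  haveI : Epi (homologyMap φ.τ₂ i) := by
    apply epi_of_epi_of_epi_of_mono
      ((δlastFunctor ⋙ δlastFunctor).map (mapComposableArrows₅ φ hS₁ hS₂ i (i + 1) hij))
    · exact (composableArrows₅_exact hS₁ i (i + 1) hij).δlast.δlast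
    · exact (composableArrows₅_exact hS₂ i (i + 1) hij).δlast.δlast
    · change Epi (homologyMap φ.τ₁ i); infer_instance
    · change Epi (homologyMap φ.τ₃ i); infer_instance
    · change Mono (homologyMap φ.τ₁ (i + 1)); infer_instance
  exact isIso_of_mono_of_epi _

end Groth.Agent.PerfDualLib
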