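import Mathlib.Algebra.Homology.BifunctorAssociator
import Mathlib.Algebra.Homology.ComplexShapeSigns

/-!
# Naturality of the associator of total complexes in all three variables
-/

set_option autoImplicit false
set_option backward.isDefEq.respectTransparency false
set_option backward.isDefEq.respectTransparency.types false

universe v u

open CategoryTheory CategoryTheory.Limits HomologicalComplex

namespace Groth.Agent.PerfDualLib.Gen

variable {C : Type u} [Category.{v} C] [Preadditive C] (T : C ⥤ C ⥤ C) [T.Additive]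
  [∀ a, (T.obj a).Additive] (α : bifunctorComp₁₂ T T ≅ bifunctorComp₂₃ T T)
  [∀ K L : CochainComplex C ℤ, HasMapBifunctor K L T (ComplexShape.up ℤ)]
  [∀ K L M : CochainComplex C ℤ,
    HasGoodTrifunctor₁₂Obj T T K L M (ComplexShape.up ℤ) (ComplexShape.up ℤ)]
  [∀ K L M : CochainComplex C ℤ,
    HasGoodTrifunctor₂₃Obj T T K L M (ComplexShape.up ℤ) (ComplexShape.up ℤ) (ComplexShape.up ℤ)]

theorem assoc_natural {K K' L L' M M' : CochainComplex C ℤ} (f : K ⟶ K') (g : L ⟶ L') (h : M ⟶ M') :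
    mapBifunctorMap (mapBifunctorMap f g T (ComplexShape.up ℤ)) h T (ComplexShape.up ℤ) ≫
        (mapBifunctorAssociator α K' L' M' (ComplexShape.up ℤ) (ComplexShape.up ℤ) (ComplexShape.up ℤ)).hom =
      (mapBifunctorAssociator α K L M (ComplexShape.up ℤ) (ComplexShape.up ℤ) (ComplexShape.up ℤ)).hom ≫
        mapBifunctorMap f (mapBifunctorMap g h T (ComplexShape.up ℤ)) T (ComplexShape.up ℤ) := by
  refine HomologicalComplex.hom_ext _ _ fun j => mapBifunctor₁₂.hom_ext fun i₁ i₂ i₃ e => ?_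
  have e' : (i₁ + i₂) + i₃ = j := e
  have e23 : i₁ + (i₂ + i₃) = j := (add_assoc i₁ i₂ i₃).symm.trans e'
  simp only [HomologicalComplex.comp_f, mapBifunctorAssociator, Hom.isoOfComponents_hom_f]
  rw [ι_mapBifunctorAssociatorX_hom_assoc,
    mapBifunctor₁₂.ι_eq T T K L M (ComplexShape.up ℤ) (ComplexShape.up ℤ) i₁ i₂ i₃ (i₁ + i₂) j rfl e',
    mapBifunctor₂₃.ι_eq T T K L M (ComplexShape.up ℤ) (ComplexShape.up ℤ) (ComplexShape.up ℤ) i₁ i₂ i₃
      (i₂ + i₃) j rfl e23]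
  simp only [Category.assoc, ι_mapBifunctorMap_assoc, ι_mapBifunctorMap]
  have hl : (T.map (ιMapBifunctor K L T (ComplexShape.up ℤ) i₁ i₂ (i₁ + i₂) rfl)).app (M.X i₃) ≫
      (T.map ((mapBifunctorMap f g T (ComplexShape.up ℤ)).f (i₁ + i₂))).app (M.X i₃) =
      (T.map ((T.map (f.f i₁)).app (L.X i₂) ≫ (T.obj (K'.X i₁)).map (g.f i₂))).app (M.X i₃) ≫
        (T.map (ιMapBifunctor K' L' T (ComplexShape.up ℤ) i₁ i₂ (i₁ + i₂) rfl)).app (M.X i₃) := by
    rw [← NatTrans.comp_app, ← Functor.map_comp, ι_mapBifunctorMap, ← Category.assoc,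
      Functor.map_comp, NatTrans.comp_app]
  have hr : (T.obj (K.X i₁)).map (ιMapBifunctor L M T (ComplexShape.up ℤ) i₂ i₃ (i₂ + i₃) rfl) ≫
      (T.map (f.f i₁)).app ((mapBifunctor L M T (ComplexShape.up ℤ)).X (i₂ + i₃)) ≫
        (T.obj (K'.X i₁)).map ((mapBifunctorMap g h T (ComplexShape.up ℤ)).f (i₂ + i₃)) =
      ((T.map (f.f i₁)).app _ ≫ (T.obj (K'.X i₁)).map
        ((T.map (g.f i₂)).app (M.X i₃) ≫ (T.obj (L'.X i₂)).map (h.f i₃))) ≫
        (T.obj (K'.X i₁)).map (ιMapBifunctor L' M' T (ComplexShape.up ℤ) i₂ i₃ (i₂ + i₃) rfl) := by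
    rw [NatTrans.naturality_assoc, ← Functor.map_comp, ι_mapBifunctorMap, Category.assoc,
      ← Functor.map_comp]
    simp only [Category.assoc]
  have hα : (T.map ((T.map (f.f i₁)).app (L.X i₂) ≫ (T.obj (K'.X i₁)).map (g.f i₂))).app (M.X i₃) ≫
      (T.obj ((T.obj (K'.X i₁)).obj (L'.X i₂))).map (h.f i₃) ≫
        ((α.hom.app (K'.X i₁)).app (L'.X i₂)).app (M'.X i₃) =
      ((α.hom.app (K.X i₁)).app (L.X i₂)).app (M.X i₃) ≫ (T.map (f.f i₁)).app _ ≫
        (T.obj (K'.X i₁)).map ((T.map (g.f i₂)).app (M.X i₃) ≫ (T.obj (L'.X i₂)).map (h.f i₃)) := by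
    have n₁ : (T.map ((T.map (f.f i₁)).app (L.X i₂))).app (M.X i₃) ≫
        ((α.hom.app (K'.X i₁)).app (L.X i₂)).app (M.X i₃) =
          ((α.hom.app (K.X i₁)).app (L.X i₂)).app (M.X i₃) ≫ (T.map (f.f i₁)).app _ :=
      NatTrans.naturality_app_app α.hom (f.f i₁) (L.X i₂) (M.X i₃)
    have n₂ : (T.map ((T.obj (K'.X i₁)).map (g.f i₂))).app (M.X i₃) ≫
        ((α.hom.app (K'.X i₁)).app (L'.X i₂)).app (M.X i₃) =
          ((α.hom.app (K'.X i₁)).app (L.X i₂)).app (M.X i₃) ≫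
            (T.obj (K'.X i₁)).map ((T.map (g.f i₂)).app (M.X i₃)) :=
      congr_app ((α.hom.app (K'.X i₁)).naturality (g.f i₂)) (M.X i₃)
    have n₃ : (T.obj ((T.obj (K'.X i₁)).obj (L'.X i₂))).map (h.f i₃) ≫
        ((α.hom.app (K'.X i₁)).app (L'.X i₂)).app (M'.X i₃) =
          ((α.hom.app (K'.X i₁)).app (L'.X i₂)).app (M.X i₃) ≫
            (T.obj (K'.X i₁)).map ((T.obj (L'.X i₂)).map (h.f i₃)) :=
      ((α.hom.app (K'.X i₁)).app (L'.X i₂)).naturality (h.f i₃)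
    simp only [Functor.map_comp, NatTrans.comp_app]
    refine (Category.assoc _ _ _).trans ((congrArg (_ ≫ ·) (congrArg (_ ≫ ·) n₃)).trans ?_)
    refine (congrArg (_ ≫ ·) ((Category.assoc _ _ _).symm.trans
      ((congrArg (· ≫ _) n₂).trans (Category.assoc _ _ _)))).trans ?_
    exact (Category.assoc _ _ _).symm.trans ((congrArg (· ≫ _) n₁).trans (Category.assoc _ _ _))
  rw [reassoc_of% hl,
    ← (T.map (ιMapBifunctor K' L' T (ComplexShape.up ℤ) i₁ i₂ (i₁ + i₂) rfl)).naturality_assoc (h.f i₃),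
    ← Category.assoc ((T.map (ιMapBifunctor K' L' T (ComplexShape.up ℤ) i₁ i₂ (i₁ + i₂) rfl)).app (M'.X i₃)),
    ← mapBifunctor₁₂.ι_eq T T K' L' M' (ComplexShape.up ℤ) (ComplexShape.up ℤ) i₁ i₂ i₃ (i₁ + i₂) j rfl e',
    ι_mapBifunctorAssociatorX_hom,
    mapBifunctor₂₃.ι_eq T T K' L' M' (ComplexShape.up ℤ) (ComplexShape.up ℤ) (ComplexShape.up ℤ) i₁ i₂ i₃
      (i₂ + i₃) j rfl e23, reassoc_of% hr, reassoc_of% hα]

end Groth.Agent.PerfDualLib.Gen
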