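import Groth.Agent.PerfDualLib.Local
import Groth.Agent.DCohRestrLib.Scheme
import Groth.Agent.PerfLib.Brutal
import Groth.Agent.PerfLib.Strict
import Groth.Agent.PerfLib.Coherent
import Groth.Agent.PerfCompLib.ExtZero

/-!
# Dévissage of strictly perfect complexes on an open, seen on the ambient scheme
-/

set_option autoImplicit false
set_option backward.isDefEq.respectTransparency false
set_option backward.isDefEq.respectTransparency.types false
set_option maxHeartbeats 1000000

universe u

open CategoryTheory CategoryTheory.Limits AlgebraicGeometry HomologicalComplex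
open Groth.Agent.DerLib

attribute [local instance] HasDerivedCategory.standard

namespace Groth.Agent.PerfDualLib

variable {X : Scheme.{u}}

section Split

variable {A : Type*} [Category* A] [Abelian A]

/-- A sequence which is, in each degree, an isomorphism followed by zero or zero followed by an
isomorphism is degreewise split. -/
theorem nonempty_degSplit_of_iso (S : ShortComplex (CochainComplex A ℤ))
    (h : ∀ n : ℤ, (IsIso (S.f.f n) ∧ IsZero (S.X₃.X n)) ∨ (IsZero (S.X₁.X n) ∧ IsIso (S.g.f n))) :
    Nonempty (KFlatLib.DegSplit S) := by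
  have : ∀ n, Nonempty ((S.map (eval A (ComplexShape.up ℤ) n)).Splitting) := fun n => by
    rcases h n with ⟨h1, h3⟩ | ⟨h1, h3⟩
    · haveI := h1
      exact ⟨{ r := inv (S.f.f n), s := 0, f_r := IsIso.hom_inv_id (S.f.f n),
               s_g := h3.eq_of_src _ _,
               id := by
                 rw [comp_zero, add_zero]
                 exact IsIso.inv_hom_id (S.f.f n) }⟩
    · haveI := h3
      exact ⟨{ r := 0, s := inv (S.g.f n), f_r := h1.eq_of_src _ _,
               s_g := IsIso.inv_hom_id (S.g.f n),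
               id := by
                 rw [zero_comp, zero_add]
                 exact IsIso.hom_inv_id (S.g.f n) }⟩
  exact ⟨fun n => (this n).some⟩

/-- The sequence `N[-(n+1)] ⟶ disk ⟶ N[-n]`. -/
theorem exists_single_disk_seq (N : A) (n : ℤ) :
    ∃ (f : (single A (ComplexShape.up ℤ) (n + 1)).obj N ⟶ disk N n)
      (g : disk N n ⟶ (single A (ComplexShape.up ℤ) n).obj N) (w : f ≫ g = 0),
      Nonempty (KFlatLib.DegSplit (ShortComplex.mk f g w)) := by
  have hr : (ComplexShape.up ℤ).Rel n (n + 1) := rfl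
  let f : (single A (ComplexShape.up ℤ) (n + 1)).obj N ⟶ disk N n :=
    mkHomFromSingle (doubleXIso₁ (𝟙 N) hr (by omega)).inv (fun j hj => by
      rw [double_d_eq_zero₀ (𝟙 N) hr _ _ (by omega), comp_zero])
  let g : disk N n ⟶ (single A (ComplexShape.up ℤ) n).obj N :=
    mkHomToSingle (doubleXIso₀ (𝟙 N) hr).hom (fun i hi => by
      have hi' : i + 1 = n := hi
      rw [double_d_eq_zero₀ (𝟙 N) hr _ _ (by omega), zero_comp])
  have w : f ≫ g = 0 := by
    refine HomologicalComplex.hom_ext _ _ fun i => ?_
    by_cases hi : i = n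
    · exact (isZero_single_obj_X (ComplexShape.up ℤ) (n + 1) N i (by omega)).eq_of_src _ _
    · exact (isZero_single_obj_X (ComplexShape.up ℤ) n N i hi).eq_of_tgt _ _
  refine ⟨f, g, w, nonempty_degSplit_of_iso _ fun i => ?_⟩
  by_cases h1 : i = n + 1
  · subst h1
    refine Or.inl ⟨?_, isZero_single_obj_X _ _ _ _ (by omega)⟩
    simp only [f, mkHomFromSingle_f]
    infer_instance
  · refine Or.inr ⟨isZero_single_obj_X _ _ _ _ h1, ?_⟩
    by_cases h0 : i = n
    · subst h0
      simp only [g, mkHomToSingle_f]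
      infer_instance
    · exact ⟨0, (isZero_double_X (𝟙 N) hr i h0 h1).eq_of_src _ _,
        (isZero_single_obj_X _ _ _ _ h0).eq_of_src _ _⟩

end Split

/-- A property of complexes local on `U` which is stable under degreewise split extensions. -/
structure Loc (U : X.Opens) (P : Cx X → Prop) : Prop where
  qis : ∀ {K K' : Cx X} (κ : K ⟶ K'), QisOn U κ → (P K ↔ P K')
  contractible : ∀ {W : Cx X}, Homotopy (𝟙 W) 0 → P W
  ext₁ : ∀ {S : ShortComplex (Cx X)}, KFlatLib.DegSplit S → P S.X₂ → P S.X₃ → P S.X₁
  ext₂ : ∀ {S : ShortComplex (Cx X)}, KFlatLib.DegSplit S → P S.X₁ → P S.X₃ → P S.X₂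
  ext₃ : ∀ {S : ShortComplex (Cx X)}, KFlatLib.DegSplit S → P S.X₁ → P S.X₂ → P S.X₃
  unit : P ((single X.Modules (ComplexShape.up ℤ) 0).obj (Coh.structureModule X))

variable (U : X.Opens)

/-- Restriction of complexes to `U`. -/
noncomputable abbrev rC : Cx X ⥤ Cx (U : Scheme.{u}) :=
  (Scheme.Modules.restrictFunctor U.ι).mapHomologicalComplex (ComplexShape.up ℤ)

/-- Extension by zero of complexes. -/
noncomputable abbrev jC : Cx (U : Scheme.{u}) ⥤ Cx X :=
  (CxOX.extZero U.ι).mapHomologicalComplex (ComplexShape.up ℤ)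

/-- Extension by zero is left adjoint to restriction, on complexes. -/
noncomputable abbrev cadj : jC U ⊣ rC U :=
  KInjDerived.mapHomologicalComplexAdj (CxOX.extZeroAdj U.ι) (ComplexShape.up ℤ)

theorem isZero_rC_homology (C : Cx X) (n : ℤ) :
    IsZero (((rC U).obj C).homology n) ↔
      ∀ x ∈ U, IsZero (((KFlatLib.stalkCx X x).obj C).homology n) := by
  refine (((C.sc n).mapHomologyIso (Scheme.Modules.restrictFunctor U.ι))).isZero_iff.trans ?_
  rw [DCohRestrLib.isZero_iff_subsingleton_stalks]
  constructor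
  · intro h x hx
    refine IsZero.of_iso ?_ (KFlatLib.stalkHomologyIso C x n)
    haveI : Subsingleton ((DerSch.stalkFunctor X x).obj (C.homology n)) :=
      (DCohRestrLib.subsingleton_stalk_restrict U.ι (C.homology n) ⟨x, hx⟩).1 (h ⟨x, hx⟩)
    exact ModuleCat.isZero_of_subsingleton _
  · intro h w
    exact (DCohRestrLib.subsingleton_stalk_restrict U.ι (C.homology n) w).2
      (ModuleCat.subsingleton_of_isZero ((h _ w.2).of_iso (KFlatLib.stalkHomologyIso C _ n).symm))

theorem qisOn_of_quasiIso_rC {C D : Cx X} {f : C ⟶ D} (h : QuasiIso ((rC U).map f)) :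
    QisOn U f := fun x hx => by
  refine (KFlatLib.acyclic_cone_iff _).1 fun n => ?_
  refine IsZero.of_iso ?_ ((HomologicalComplex.homologyFunctor _ _ n).mapIso
    (CochainComplex.mappingCone.mapHomologicalComplexIso f (DerSch.stalkFunctor X x)).symm)
  refine (isZero_rC_homology U _ n).1 ?_ x hx
  exact ((KFlatLib.acyclic_cone_iff ((rC U).map f)).2 h n).of_iso
    ((HomologicalComplex.homologyFunctor _ _ n).mapIso
      (CochainComplex.mappingCone.mapHomologicalComplexIso f (Scheme.Modules.restrictFunctor U.ι)))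

theorem isIso_cadj_unit (E : Cx (U : Scheme.{u})) : IsIso ((cadj U).unit.app E) := by
  haveI := DCohRestrLib.isIso_extZeroAdj_unit U
  haveI : ∀ i, IsIso (((cadj U).unit.app E).f i) := fun i =>
    inferInstanceAs (IsIso ((CxOX.extZeroAdj U.ι).unit.app (E.X i)))
  exact HomologicalComplex.Hom.isIso_of_components _

theorem qisOn_adjunct {E : Cx (U : Scheme.{u})} {K : Cx X} (g : E ⟶ (rC U).obj K) [QuasiIso g] :
    QisOn U (((cadj U).homEquiv E K).symm g) := by
  haveI := isIso_cadj_unit U E
  refine qisOn_of_quasiIso_rC U ?_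
  have h : (cadj U).unit.app E ≫ (rC U).map (((cadj U).homEquiv E K).symm g) = g :=
    ((cadj U).homEquiv_unit _ _ _).symm.trans (Equiv.apply_symm_apply _ g)
  haveI : QuasiIso ((cadj U).unit.app E ≫ (rC U).map (((cadj U).homEquiv E K).symm g)) := by
    rw [h]; infer_instance
  exact quasiIso_of_comp_left ((cadj U).unit.app E) _

/-- The unit of `U` is, on `U`, the unit of `X`. -/
theorem exists_qisOn_unit : ∃ t : (jC U).obj ((single _ (ComplexShape.up ℤ) 0).obj
    (Coh.structureModule (U : Scheme.{u}))) ⟶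
      (single X.Modules (ComplexShape.up ℤ) 0).obj (Coh.structureModule X), QisOn U t := by
  let e : (single _ (ComplexShape.up ℤ) 0).obj (Coh.structureModule (U : Scheme.{u})) ≅
      (rC U).obj ((single X.Modules (ComplexShape.up ℤ) 0).obj (Coh.structureModule X)) :=
    (single _ (ComplexShape.up ℤ) 0).mapIso (Scheme.Modules.restrictUnitIso U.ι).symm ≪≫
      ((singleMapHomologicalComplex (Scheme.Modules.restrictFunctor U.ι) (ComplexShape.up ℤ) 0).app
        (Coh.structureModule X)).symm
  exact ⟨_, qisOn_adjunct U e.hom⟩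

variable {U}
variable {P : Cx X → Prop} (h : Loc U P)
include h

theorem Loc.prop_jC_contractible {W : Cx (U : Scheme.{u})} (hW : Homotopy (𝟙 W) 0) :
    P ((jC U).obj W) :=
  h.contractible ((Homotopy.ofEq ((jC U).map_id W).symm).trans
    (((CxOX.extZero U.ι).mapHomotopy hW).trans (Homotopy.ofEq ((jC U).map_zero W W))))

theorem Loc.prop_jC_of_isZero {W : Cx (U : Scheme.{u})} (hW : ∀ i, IsZero (W.X i)) :
    P ((jC U).obj W) :=
  h.prop_jC_contractible (Homotopy.ofEq (HomologicalComplex.hom_ext _ _ fun i => (hW i).eq_of_src _ _))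

/-- Degreewise split sequences on `U` extend. -/
noncomputable def degSplit_jC {S : ShortComplex (Cx (U : Scheme.{u}))} (hS : KFlatLib.DegSplit S) :
    KFlatLib.DegSplit (S.map (jC U)) := fun n => (hS n).map (CxOX.extZero U.ι)

theorem Loc.prop_single_unit (n : ℤ) :
    P ((jC U).obj ((single _ (ComplexShape.up ℤ) n).obj (Coh.structureModule (U : Scheme.{u})))) := by
  have step : ∀ (n : ℤ), (P ((jC U).obj ((single _ (ComplexShape.up ℤ) n).obj
      (Coh.structureModule (U : Scheme.{u})))) ↔ P ((jC U).obj
        ((single _ (ComplexShape.up ℤ) (n + 1)).obj (Coh.structureModule (U : Scheme.{u}))))) := by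
    intro n
    obtain ⟨f, g, w, ⟨hS⟩⟩ := exists_single_disk_seq (Coh.structureModule (U : Scheme.{u})) n
    have hd := h.prop_jC_contractible (diskContractible (Coh.structureModule (U : Scheme.{u})) n)
    exact ⟨fun hp => h.ext₁ (degSplit_jC hS) hd hp, fun hp => h.ext₃ (degSplit_jC hS) hp hd⟩
  induction n using Int.induction_on with
  | zero =>
    obtain ⟨t, ht⟩ := exists_qisOn_unit U
    exact (h.qis t ht).2 h.unit
  | succ k ih => exact (step _).1 ih
  | pred k ih =>
    have := step (-(k : ℤ) - 1)
    rw [sub_add_cancel] at this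
    exact this.2 ih

theorem Loc.prop_single_free (n : ℤ) (r : ℕ) :
    P ((jC U).obj ((single _ (ComplexShape.up ℤ) n).obj (FlatMod.freeMod (U : Scheme.{u}) r))) := by
  induction r with
  | zero =>
      refine h.prop_jC_of_isZero fun i => ?_
      have hz : IsZero (FlatMod.freeMod (U : Scheme.{u}) 0) :=
        (IsZero.iff_id_eq_zero _).mpr (Sigma.hom_ext _ _ fun j => j.elim0)
      exact ((single _ (ComplexShape.up ℤ) n ⋙ eval _ (ComplexShape.up ℤ) i).map_isZero hz)
  | succ r ih =>
      let e := PerfLib.freeModSucc' (U : Scheme.{u}) r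
      let sp : (ShortComplex.mk (biprod.inl ≫ e.inv) (e.hom ≫ biprod.snd)
          (by rw [Category.assoc, Iso.inv_hom_id_assoc]; exact biprod.inl_snd)).Splitting :=
        { r := e.hom ≫ biprod.fst, s := biprod.inr ≫ e.inv,
          f_r := by
            change (biprod.inl ≫ e.inv) ≫ e.hom ≫ biprod.fst = 𝟙 _
            rw [Category.assoc, Iso.inv_hom_id_assoc]; exact biprod.inl_fst,
          s_g := by
            change (biprod.inr ≫ e.inv) ≫ e.hom ≫ biprod.snd = 𝟙 _
            rw [Category.assoc, Iso.inv_hom_id_assoc]; exact biprod.inr_snd,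
          id := by
            simp only [Category.assoc]
            rw [← Preadditive.comp_add, ← Category.assoc biprod.fst, ← Category.assoc biprod.snd,
              ← Preadditive.add_comp, biprod.total, Category.id_comp, Iso.hom_inv_id] }
      exact h.ext₂ (degSplit_jC (fun i =>
          ((sp.map (single _ (ComplexShape.up ℤ) n)).map (eval _ (ComplexShape.up ℤ) i))))
        (h.prop_single_unit n) ih

theorem Loc.prop_single (n : ℤ) {M : (U : Scheme.{u}).Modules} (hM : KFlatLib.IsFinFree M) :
    P ((jC U).obj ((single _ (ComplexShape.up ℤ) n).obj M)) := by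
  obtain ⟨r, ⟨e⟩⟩ := hM
  exact (h.qis ((jC U).map ((single _ (ComplexShape.up ℤ) n).map e.hom))
    (QisOn.of_quasiIso U _)).2 (h.prop_single_free n r)

theorem Loc.prop_jC (k : ℕ) : ∀ (E : Cx (U : Scheme.{u})) (a : ℤ),
    (∀ i, i < a ∨ a + k ≤ i → IsZero (E.X i)) → (∀ i, KFlatLib.IsFinFree (E.X i)) →
    P ((jC U).obj E) := by
  induction k with
  | zero => exact fun E a hv _ => h.prop_jC_of_isZero fun i => hv i (by omega)
  | succ k ih =>
      intro E a hv hf
      let g : E ⟶ (single _ (ComplexShape.up ℤ) a).obj (E.X a) :=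
        mkHomToSingle (𝟙 _) (fun i hi => (hv i (Or.inl (by
          have hi' : i + 1 = a := hi
          omega))).eq_of_src _ _)
      have w : PerfLib.Brutal.ι E (a + 1) ≫ g = 0 := HomologicalComplex.hom_ext _ _ fun i => by
        by_cases hi : i = a
        · exact (PerfLib.Brutal.isZero_X E (a + 1) (by omega)).eq_of_src _ _
        · exact (isZero_single_obj_X (ComplexShape.up ℤ) a _ i hi).eq_of_tgt _ _
      obtain ⟨hS⟩ := nonempty_degSplit_of_iso (ShortComplex.mk _ g w) fun i => by
        by_cases hi : a + 1 ≤ i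
        · exact Or.inl ⟨PerfLib.Brutal.isIso_ι_f E (a + 1) hi,
            isZero_single_obj_X _ _ _ _ (by omega)⟩
        · refine Or.inr ⟨PerfLib.Brutal.isZero_X E (a + 1) (by omega), ?_⟩
          by_cases hia : i = a
          · subst hia
            simp only [g, mkHomToSingle_f]
            infer_instance
          · exact ⟨0, (hv i (Or.inl (by omega))).eq_of_src _ _,
              (isZero_single_obj_X (ComplexShape.up ℤ) a _ i hia).eq_of_src _ _⟩
      refine h.ext₂ (degSplit_jC hS) ?_ (h.prop_single a (hf a))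
      refine ih _ (a + 1) (fun i hi => ?_) fun i => ?_
      · by_cases hi' : i < a + 1
        · exact PerfLib.Brutal.isZero_X E (a + 1) hi'
        · haveI := PerfLib.Brutal.isIso_ι_f E (a + 1) (show a + 1 ≤ i by omega)
          exact (hv i (Or.inr (by omega))).of_iso (asIso ((PerfLib.Brutal.ι E (a + 1)).f i))
      · by_cases hi' : i < a + 1
        · exact KFlatLib.isFinFree_of_isZero (PerfLib.Brutal.isZero_X E (a + 1) hi')
        · haveI := PerfLib.Brutal.isIso_ι_f E (a + 1) (show a + 1 ≤ i by omega)
          exact KFlatLib.isFinFree_of_iso (asIso ((PerfLib.Brutal.ι E (a + 1)).f i)).symm (hf i)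

theorem Loc.prop_bounded (E : Cx (U : Scheme.{u})) (a b : ℤ)
    (hv : ∀ i, i < a ∨ b < i → IsZero (E.X i)) (hf : ∀ i, KFlatLib.IsFinFree (E.X i)) :
    P ((jC U).obj E) :=
  h.prop_jC (b + 1 - a).toNat E a (fun i hi => hv i (by omega)) hf

/-- A complex which is, on `U`, isomorphic to a bounded complex of free modules has the property. -/
theorem Loc.prop_of_iso (K : Cx X) (E : Cx (U : Scheme.{u})) (a b : ℤ)
    (hv : ∀ i, i < a ∨ b < i → IsZero (E.X i)) (hf : ∀ i, KFlatLib.IsFinFree (E.X i))
    (e : DerivedCategory.Q.obj E ≅ DerivedCategory.Q.obj ((rC U).obj K)) : P K := by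
  haveI := PerfCompLib.preservesFiniteLimits_extZero U
  obtain ⟨Z, s, hs, g, hg⟩ := DerivedCategory.right_fac e.hom
  haveI : QuasiIso s := (DerivedCategory.isIso_Q_map_iff_quasiIso _ s).1 hs
  haveI : IsIso (DerivedCategory.Q.map g) := by
    have : DerivedCategory.Q.map g = DerivedCategory.Q.map s ≫ e.hom := by
      rw [hg, IsIso.hom_inv_id_assoc]
    rw [this]
    infer_instance
  haveI : QuasiIso g := (DerivedCategory.isIso_Q_map_iff_quasiIso _ g).1 ‹_›
  have h1 : P ((jC U).obj Z) :=
    (h.qis ((jC U).map s) (QisOn.of_quasiIso U _)).2 (h.prop_bounded E a b hv hf)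
  exact (h.qis _ (qisOn_adjunct U g)).1 h1

end Groth.Agent.PerfDualLib
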