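import Groth.Agent.PerfDualLib.GenLocal
import Groth.Agent.PerfDualLib.Unit
import Groth.Agent.PerfDualLib.Assoc

/-!
# Evaluation maps between internal hom complexes
-/

set_option autoImplicit false
set_option backward.isDefEq.respectTransparency false
set_option backward.isDefEq.respectTransparency.types false

open CategoryTheory CategoryTheory.Limits HomologicalComplex

namespace Groth.Agent.PerfDualLib.Gen

variable {A : Type*} [Category* A] [Abelian A] {T : A ⥤ A ⥤ A} [T.Additive]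
  [∀ a, (T.obj a).Additive]
  [∀ K L : CochainComplex A ℤ, HasMapBifunctor K L T (ComplexShape.up ℤ)]
  [∀ K : CochainComplex A ℤ, (tR T K).IsLeftAdjoint]
  [∀ K L M : CochainComplex A ℤ,
    HasGoodTrifunctor₁₂Obj T T K L M (ComplexShape.up ℤ) (ComplexShape.up ℤ)]
  [∀ K L M : CochainComplex A ℤ,
    HasGoodTrifunctor₂₃Obj T T K L M (ComplexShape.up ℤ) (ComplexShape.up ℤ) (ComplexShape.up ℤ)]
  (α : bifunctorComp₁₂ T T ≅ bifunctorComp₂₃ T T)

variable (T) in
/-- The tensor product of two complexes. -/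
noncomputable abbrev t2 (K L : CochainComplex A ℤ) : CochainComplex A ℤ :=
  (T.map₂CochainComplex.obj K).obj L

/-- The tensor product of two maps. -/
noncomputable abbrev m2 {K K' L L' : CochainComplex A ℤ} (f : K ⟶ K') (g : L ⟶ L') :
    t2 T K L ⟶ t2 T K' L' :=
  mapBifunctorMap f g T (ComplexShape.up ℤ)

/-- The associator. -/
noncomputable abbrev assoc (K L M : CochainComplex A ℤ) : t2 T (t2 T K L) M ≅ t2 T K (t2 T L M) :=
  mapBifunctorAssociator α K L M (ComplexShape.up ℤ) (ComplexShape.up ℤ) (ComplexShape.up ℤ)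

omit [∀ K : CochainComplex A ℤ, (tR T K).IsLeftAdjoint]
  [∀ K L M : CochainComplex A ℤ,
    HasGoodTrifunctor₁₂Obj T T K L M (ComplexShape.up ℤ) (ComplexShape.up ℤ)]
  [∀ K L M : CochainComplex A ℤ,
    HasGoodTrifunctor₂₃Obj T T K L M (ComplexShape.up ℤ) (ComplexShape.up ℤ) (ComplexShape.up ℤ)] in
theorem m2_id (K L : CochainComplex A ℤ) : m2 (T := T) (𝟙 K) (𝟙 L) = 𝟙 (t2 T K L) :=
  (T.map₂CochainComplex.obj K).map_id L

omit [∀ K : CochainComplex A ℤ, (tR T K).IsLeftAdjoint]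
  [∀ K L M : CochainComplex A ℤ,
    HasGoodTrifunctor₁₂Obj T T K L M (ComplexShape.up ℤ) (ComplexShape.up ℤ)]
  [∀ K L M : CochainComplex A ℤ,
    HasGoodTrifunctor₂₃Obj T T K L M (ComplexShape.up ℤ) (ComplexShape.up ℤ) (ComplexShape.up ℤ)] in
theorem tL_map_comp {M K K' K'' : CochainComplex A ℤ} (f : K ⟶ K') (g : K' ⟶ K'') :
    m2 (T := T) (𝟙 M) f ≫ m2 (T := T) (𝟙 M) g = m2 (T := T) (𝟙 M) (f ≫ g) :=
  ((T.map₂CochainComplex.obj M).map_comp f g).symm

variable (T) in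
/-- The evaluation. -/
noncomputable def ev (K J : CochainComplex A ℤ) : t2 T ((G T K).obj J) K ⟶ J :=
  adjunct (𝟙 ((G T K).obj J))

omit [∀ K L M : CochainComplex A ℤ,
    HasGoodTrifunctor₁₂Obj T T K L M (ComplexShape.up ℤ) (ComplexShape.up ℤ)]
  [∀ K L M : CochainComplex A ℤ,
    HasGoodTrifunctor₂₃Obj T T K L M (ComplexShape.up ℤ) (ComplexShape.up ℤ) (ComplexShape.up ℤ)] in
theorem ev_natural {K K' : CochainComplex A ℤ} (κ : K ⟶ K') (J : CochainComplex A ℤ) :
    m2 (T := T) ((Gmap T κ).app J) (𝟙 K) ≫ ev T K J =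
      m2 (T := T) (𝟙 ((G T K').obj J)) κ ≫ ev T K' J := by
  have h1 := adjunct_comp (T := T) ((Gmap T κ).app J) (𝟙 ((G T K).obj J))
  have h2 := adjunct_comp_Gmap (T := T) (I := J) κ (𝟙 ((G T K').obj J))
  rw [Category.comp_id] at h1
  rw [Category.id_comp] at h2
  exact h1.symm.trans h2

section First

variable {M J I : CochainComplex A ℤ} (f₀ : t2 T M J ⟶ I)

/-- The evaluation map `M ⊗ Hom(K, J) ⟶ Hom(K, I)`. -/
noncomputable def eval₁ (K : CochainComplex A ℤ) : t2 T M ((G T K).obj J) ⟶ (G T K).obj I :=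
  (gAdj T K).homEquiv _ _ ((assoc α M ((G T K).obj J) K).hom ≫ m2 (T := T) (𝟙 M) (ev T K J) ≫ f₀)

theorem eval₁_natural {K K' : CochainComplex A ℤ} (κ : K ⟶ K') :
    m2 (T := T) (𝟙 M) ((Gmap T κ).app J) ≫ eval₁ α f₀ K = eval₁ α f₀ K' ≫ (Gmap T κ).app I := by
  refine adjunct_injective ?_
  rw [adjunct_comp, adjunct_comp_Gmap]
  simp only [eval₁, adjunct, Equiv.symm_apply_apply]
  change m2 (T := T) (m2 (T := T) (𝟙 M) ((Gmap T κ).app J)) (𝟙 K) ≫ _ = m2 (T := T) (𝟙 _) κ ≫ _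
  have h1 := assoc_natural T α (𝟙 M) ((Gmap T κ).app J) (𝟙 K)
  have h2 := assoc_natural T α (𝟙 M) (𝟙 ((G T K').obj J)) κ
  rw [show mapBifunctorMap (𝟙 M) (𝟙 ((G T K').obj J)) T (ComplexShape.up ℤ) =
    𝟙 (t2 T M ((G T K').obj J)) from m2_id M _] at h2
  rw [reassoc_of% h1, reassoc_of% h2]
  refine congrArg (_ ≫ ·) ?_
  refine (Category.assoc _ _ _).symm.trans (((congrArg (· ≫ f₀) ?_)).trans (Category.assoc _ _ _))
  exact (tL_map_comp _ _).trans ((congrArg (m2 (T := T) (𝟙 M)) (ev_natural κ J)).trans (tL_map_comp _ _).symm)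

end First

section Second

variable (β : ∀ K L : CochainComplex A ℤ, t2 T K L ≅ t2 T L K)
  (hβ : ∀ {K K' L L' : CochainComplex A ℤ} (f : K ⟶ K') (g : L ⟶ L'),
    m2 (T := T) f g ≫ (β K' L').hom = (β K L).hom ≫ m2 (T := T) g f)
  {N J I : CochainComplex A ℤ} (f₀ : t2 T N J ⟶ I)

/-- The evaluation map `N ⊗ K ⟶ Hom(Hom(K, J), I)`. -/
noncomputable def eval₂ (K : CochainComplex A ℤ) : t2 T N K ⟶ (G T ((G T K).obj J)).obj I :=
  (gAdj T ((G T K).obj J)).homEquiv _ _ ((assoc α N K ((G T K).obj J)).hom ≫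
    m2 (T := T) (𝟙 N) ((β K ((G T K).obj J)).hom ≫ ev T K J) ≫ f₀)

include hβ in
theorem eval₂_natural {K K' : CochainComplex A ℤ} (κ : K ⟶ K') :
    m2 (T := T) (𝟙 N) κ ≫ eval₂ α β f₀ K' =
      eval₂ α β f₀ K ≫ (Gmap T ((Gmap T κ).app J)).app I := by
  refine adjunct_injective ?_
  rw [adjunct_comp, adjunct_comp_Gmap]
  simp only [eval₂, adjunct, Equiv.symm_apply_apply]
  change m2 (T := T) (m2 (T := T) (𝟙 N) κ) (𝟙 _) ≫ _ = m2 (T := T) (𝟙 _) _ ≫ _
  have h1 := assoc_natural T α (𝟙 N) κ (𝟙 ((G T K').obj J))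
  have h2 := assoc_natural T α (𝟙 N) (𝟙 K) ((Gmap T κ).app J)
  rw [show mapBifunctorMap (𝟙 N) (𝟙 K) T (ComplexShape.up ℤ) = 𝟙 (t2 T N K) from m2_id N _] at h2
  rw [reassoc_of% h1, reassoc_of% h2]
  refine congrArg (_ ≫ ·) ?_
  refine (Category.assoc _ _ _).symm.trans (((congrArg (· ≫ f₀) ?_)).trans (Category.assoc _ _ _))
  refine (tL_map_comp _ _).trans ((congrArg (m2 (T := T) (𝟙 N)) ?_).trans (tL_map_comp _ _).symm)
  rw [reassoc_of% (hβ κ (𝟙 ((G T K').obj J))), reassoc_of% (hβ (𝟙 K) ((Gmap T κ).app J)),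
    ev_natural κ J]

end Second

section Unit

variable {U : CochainComplex A ℤ} (e : tR T U ≅ 𝟭 (CochainComplex A ℤ))

include e

omit [∀ K L M : CochainComplex A ℤ,
    HasGoodTrifunctor₁₂Obj T T K L M (ComplexShape.up ℤ) (ComplexShape.up ℤ)]
  [∀ K L M : CochainComplex A ℤ,
    HasGoodTrifunctor₂₃Obj T T K L M (ComplexShape.up ℤ) (ComplexShape.up ℤ) (ComplexShape.up ℤ)] in
theorem isIso_unit_counit : IsIso (gAdj T U).unit ∧ IsIso (gAdj T U).counit := by
  haveI : (tR T U).IsEquivalence := Functor.isEquivalence_of_iso e.symm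
  haveI : (G T U).IsEquivalence := (gAdj T U).isEquivalence_right_of_isEquivalence_left
  exact ⟨inferInstance, inferInstance⟩

theorem quasiIso_eval₁_unit {M J I : CochainComplex A ℤ} (f₀ : t2 T M J ⟶ I) [QuasiIso f₀] :
    QuasiIso (eval₁ α f₀ U) := by
  obtain ⟨h1, h2⟩ := isIso_unit_counit e
  haveI := h1
  haveI := h2
  haveI : IsIso (ev T U J) := by
    rw [ev, adjunct, Adjunction.homEquiv_counit, CategoryTheory.Functor.map_id, Category.id_comp]
    infer_instance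
  haveI : IsIso (m2 (T := T) (𝟙 M) (ev T U J)) :=
    Functor.map_isIso (T.map₂CochainComplex.obj M) (ev T U J)
  let z : t2 T (t2 T M ((G T U).obj J)) U ⟶ I :=
    (assoc α M ((G T U).obj J) U).hom ≫ m2 (T := T) (𝟙 M) (ev T U J) ≫ f₀
  haveI : QuasiIso z := inferInstance
  let γ := gIsoId T e
  haveI : QuasiIso ((G T U).map z) := by
    have h := γ.hom.naturality z
    rw [← IsIso.eq_comp_inv] at h
    rw [h]
    simp only [Functor.id_map, Category.assoc]
    infer_instance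
  rw [eval₁, Adjunction.homEquiv_unit]
  infer_instance

variable (β : ∀ K L : CochainComplex A ℤ, t2 T K L ≅ t2 T L K)

theorem quasiIso_eval₂_unit {N J I : CochainComplex A ℤ} (f : N ⟶ (G T J).obj I) [QuasiIso f] :
    QuasiIso (eval₂ α β (adjunct f) U) := by
  obtain ⟨h1, h2⟩ := isIso_unit_counit e
  haveI := h1
  haveI := h2
  haveI : IsIso (ev T U J) := by
    rw [ev, adjunct, Adjunction.homEquiv_counit, CategoryTheory.Functor.map_id, Category.id_comp]
    infer_instance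
  let G' := (G T U).obj J
  let b : t2 T U G' ≅ J := β U G' ≪≫ asIso (ev T U J)
  let θ : tR T U ⋙ tR T G' ≅ tR T J :=
    NatIso.ofComponents (fun W => assoc α W U G' ≪≫ (T.map₂CochainComplex.obj W).mapIso b)
      fun {W W'} g => by
        have h := assoc_natural T α g (𝟙 U) (𝟙 G')
        have hn := (T.map₂CochainComplex.map g).naturality b.hom
        rw [show mapBifunctorMap (𝟙 U) (𝟙 G') T (ComplexShape.up ℤ) = 𝟙 (t2 T U G') from m2_id U _] at h
        simp only [Iso.trans_hom, Functor.mapIso_hom, Category.assoc]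
        change m2 (T := T) (m2 (T := T) g (𝟙 U)) (𝟙 G') ≫ _ = _
        rw [reassoc_of% h]
        exact congrArg (_ ≫ ·) hn.symm
  let a' := ((gAdj T U).comp (gAdj T G')).ofNatIsoLeft θ
  let γ := conjugateEquiv (gAdj T J) a' (𝟙 (tR T J))
  haveI : IsIso γ := conjugateEquiv_iso _ _ _
  have hγ : (a'.homEquiv N I).symm (f ≫ γ.app I) = adjunct f := by
    refine (symm_comp_conjugate a' (gAdj T J) (𝟙 (tR T J)) f).trans ?_
    exact Category.id_comp _
  have hy : eval₂ α β (adjunct f) U = ((gAdj T U).homEquiv _ _).symm (f ≫ γ.app I) := by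
    refine (Equiv.eq_symm_apply _).2 ?_
    refine Eq.trans ?_ (((a'.homEquiv N I).symm_apply_eq).1 hγ).symm
    rw [Adjunction.homEquiv_ofNatIsoLeft_apply, Adjunction.comp_homEquiv]
    refine congrArg ((gAdj T U).homEquiv _ _) (congrArg ((gAdj T G').homEquiv _ _) ?_)
    change _ = (_ ≫ m2 (T := T) (𝟙 N) b.hom) ≫ adjunct f
    rw [Category.assoc]
    rfl
  rw [hy, Adjunction.homEquiv_counit]
  haveI : QuasiIso ((tR T U).map (f ≫ γ.app I)) := by
    have h := e.hom.naturality (f ≫ γ.app I)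
    rw [← IsIso.eq_comp_inv] at h
    rw [h]
    simp only [Functor.id_map, Category.assoc]
    infer_instance
  infer_instance

end Unit

end Groth.Agent.PerfDualLib.Gen
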