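import Groth.Agent.PerfDualLib.EvalSteps
import Groth.Agent.PerfDualLib.Props
import Groth.Agent.TensorAssocLib.Derived
import Groth.Agent.ModSiteLib.KFlatBounded

/-!
# Evaluation maps out of perfect complexes on a scheme
-/

set_option autoImplicit false
set_option backward.isDefEq.respectTransparency false
set_option backward.isDefEq.respectTransparency.types false
set_option maxHeartbeats 1000000

universe u

open CategoryTheory CategoryTheory.Limits AlgebraicGeometry HomologicalComplex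

attribute [local instance] HasDerivedCategory.standard

namespace Groth.Agent.PerfDualLib

variable {X : Scheme.{u}}

instance hasGoodTrifunctor₁₂_tensor (K L M : Cx X) :
    HasGoodTrifunctor₁₂Obj (Tb X) (Tb X) K L M (ComplexShape.up ℤ) (ComplexShape.up ℤ) :=
  fun _ j => (inferInstance : PreservesColimitsOfShape _
    ((Functor.flip (Tb X)).obj (M.X j))).preservesColimit

instance hasGoodTrifunctor₂₃_tensor (K L M : Cx X) :
    HasGoodTrifunctor₂₃Obj (Tb X) (Tb X) K L M (ComplexShape.up ℤ) (ComplexShape.up ℤ)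
      (ComplexShape.up ℤ) :=
  fun i _ => (inferInstance : PreservesColimitsOfShape _ ((Tb X).obj (K.X i))).preservesColimit

/-- The associator of the tensor product. -/
noncomputable abbrev aX (X : Scheme.{u}) :
    bifunctorComp₁₂ (Tb X) (Tb X) ≅ bifunctorComp₂₃ (Tb X) (Tb X) :=
  TensorAssocLib.assocBiX

/-- The symmetry of the tensor product. -/
noncomputable def bX (K L : Cx X) : Gen.t2 (Tb X) K L ≅ Gen.t2 (Tb X) L K :=
  ModSiteLib.symCx X.sheaf L K

theorem bX_natural {K K' L L' : Cx X} (f : K ⟶ K') (g : L ⟶ L') :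
    Gen.m2 (T := Tb X) f g ≫ (bX K' L').hom = (bX K L).hom ≫ Gen.m2 (T := Tb X) g f :=
  ModSiteLib.symCx_natural g f

/-- Tensoring with a K-flat complex preserves quasi-isomorphisms on `U`. -/
theorem qisOn_tL {U : X.Opens} {M : Cx X} (hM : DCoh.IsKFlat M) {C D : Cx X} {f : C ⟶ D}
    (hf : QisOn U f) : QisOn U ((Gen.tL (Tb X) M).map f) := fun x hx => by
  haveI := hf x hx
  have h := KFlatLib.stalkTensorCxIso_natural x (𝟙 M) f
  haveI : QuasiIso (KFlatLib.tMap ((KFlatLib.stalkCx X x).map (𝟙 M)) ((KFlatLib.stalkCx X x).map f)) := by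
    rw [CategoryTheory.Functor.map_id]
    exact KFlatLib.quasiIso_tMap_left (KFlatLib.stalks_isKFlat hM x) _
  haveI : QuasiIso ((KFlatLib.stalkTensorCxIso x M C).hom ≫ (KFlatLib.stalkCx X x).map
      (mapBifunctorMap (𝟙 M) f (DCoh.tensorBi (X := X)) (ComplexShape.up ℤ))) := by
    rw [← h]
    exact quasiIso_comp _ _
  change QuasiIso ((KFlatLib.stalkCx X x).map
    (mapBifunctorMap (𝟙 M) f (DCoh.tensorBi (X := X)) (ComplexShape.up ℤ)))
  exact quasiIso_of_comp_left (KFlatLib.stalkTensorCxIso x M C).hom _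

variable (U : X.Opens)

/-- The family of stalk functors. -/
noncomputable abbrev stalks (X : Scheme.{u}) (x : X) : X.Modules ⥤ ModuleCat.{u} (X.presheaf.stalk x) :=
  DerSch.stalkFunctor X x

/-- Steps give a property local on `U`. -/
theorem loc_of_steps {P : Cx X → Prop} (h : Gen.Steps (stalks X) (fun x => x ∈ U) P)
    (h₀ : P (unitCx X)) : Loc U P where
  qis κ hκ := h.qis κ hκ
  contractible hW := h.contractible hW
  ext₁ hS := h.ext₁ hS
  ext₂ hS := h.ext₂ hS
  ext₃ hS := h.ext₃ hS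
  unit := h₀

theorem loc_eval₁ {M J I : Cx X} (hM : DCoh.IsKFlat M) [J.IsKInjective] [I.IsKInjective]
    (f₀ : Gen.t2 (Tb X) M J ⟶ I) [QuasiIso f₀] :
    Loc U (fun K => Gen.FQ (stalks X) (fun x => x ∈ U) (Gen.eval₁ (aX X) f₀ K)) :=
  loc_of_steps U
    (Gen.steps_eval₁ (aX X) (stalks X) (fun x => x ∈ U) f₀ (fun _ h => qisOn_gm h J)
      (fun _ h => qisOn_gm h I) (fun _ h => qisOn_tL hM h))
    (haveI := Gen.quasiIso_eval₁_unit (aX X) unitNat f₀
     Gen.FQ.of_quasiIso (stalks X) _ _)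

theorem loc_eval₂ {N J I : Cx X} (hN : DCoh.IsKFlat N) [J.IsKInjective] [I.IsKInjective]
    (f : N ⟶ iG J I) [QuasiIso f] :
    Loc U (fun K => Gen.FQ (stalks X) (fun x => x ∈ U)
      (Gen.eval₂ (aX X) bX (Gen.adjunct f) K)) :=
  loc_of_steps U
    (Gen.steps_eval₂ (aX X) (stalks X) (fun x => x ∈ U) bX bX_natural (Gen.adjunct f)
      (fun _ h => qisOn_gm h J) (fun _ h => qisOn_gm h I) (fun _ h => qisOn_tL hN h))
    (haveI := Gen.quasiIso_eval₂_unit (aX X) unitNat bX f
     Gen.FQ.of_quasiIso (stalks X) _ _)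

theorem quasiIso_eval₁ {M J I : Cx X} (hM : DCoh.IsKFlat M) [J.IsKInjective] [I.IsKInjective]
    (f₀ : Gen.t2 (Tb X) M J ⟶ I) [QuasiIso f₀] {K : Cx X}
    (hK : DCoh.IsPerfect (DerivedCategory.Q.obj K)) : QuasiIso (Gen.eval₁ (aX X) f₀ K) :=
  quasiIso_of_qisOn_top fun x _ => by
    obtain ⟨U, hx, E, a, b, hv, hf, ⟨e⟩⟩ := exists_free_nbhd hK x
    exact (loc_eval₁ U hM f₀).prop_of_iso K E a b hv hf e x hx

theorem quasiIso_eval₂ {N J I : Cx X} (hN : DCoh.IsKFlat N) [J.IsKInjective] [I.IsKInjective]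
    (f : N ⟶ iG J I) [QuasiIso f] {K : Cx X}
    (hK : DCoh.IsPerfect (DerivedCategory.Q.obj K)) :
    QuasiIso (Gen.eval₂ (aX X) bX (Gen.adjunct f) K) :=
  quasiIso_of_qisOn_top fun x _ => by
    obtain ⟨U, hx, E, a, b, hv, hf, ⟨e⟩⟩ := exists_free_nbhd hK x
    exact (loc_eval₂ U hN f).prop_of_iso K E a b hv hf e x hx

end Groth.Agent.PerfDualLib
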