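import Groth.Agent.PerfDualLib.EvalGen
import Groth.Agent.PerfDualLib.TwoOfThree

/-!
# The dévissage steps for evaluation maps, seen through an exact functor
-/

set_option autoImplicit false
set_option backward.isDefEq.respectTransparency false
set_option backward.isDefEq.respectTransparency.types false

open CategoryTheory CategoryTheory.Limits HomologicalComplex

namespace Groth.Agent.PerfDualLib.Gen

variable {A : Type*} [Category* A] [Abelian A] {T : A ⥤ A ⥤ A} [T.Additive]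
  [∀ a, (T.obj a).Additive]
  [∀ K L : CochainComplex A ℤ, HasMapBifunctor K L T (ComplexShape.up ℤ)]
  [∀ K : CochainComplex A ℤ, (tR T K).IsLeftAdjoint]
  [∀ K L M : CochainComplex A ℤ,
    HasGoodTrifunctor₁₂Obj T T K L M (ComplexShape.up ℤ) (ComplexShape.up ℤ)]
  [∀ K L M : CochainComplex A ℤ,
    HasGoodTrifunctor₂₃Obj T T K L M (ComplexShape.up ℤ) (ComplexShape.up ℤ) (ComplexShape.up ℤ)]
  (α : bifunctorComp₁₂ T T ≅ bifunctorComp₂₃ T T)
  {B : Type*} [Category* B] [Abelian B] (F : A ⥤ B) [F.Additive] [PreservesFiniteLimits F]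
  [PreservesFiniteColimits F]

local notation "FC" => F.mapHomologicalComplex (ComplexShape.up ℤ)

omit [T.Additive] [∀ a, (T.obj a).Additive]
  [∀ K L : CochainComplex A ℤ, HasMapBifunctor K L T (ComplexShape.up ℤ)]
  [∀ K : CochainComplex A ℤ, (tR T K).IsLeftAdjoint]
  [∀ K L M : CochainComplex A ℤ,
    HasGoodTrifunctor₁₂Obj T T K L M (ComplexShape.up ℤ) (ComplexShape.up ℤ)]
  [∀ K L M : CochainComplex A ℤ,
    HasGoodTrifunctor₂₃Obj T T K L M (ComplexShape.up ℤ) (ComplexShape.up ℤ) (ComplexShape.up ℤ)] in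
theorem shortExact_FC {S : ShortComplex (CochainComplex A ℤ)} (hS : S.ShortExact) :
    (S.map FC).ShortExact :=
  shortExact_of_degreewise_shortExact _ fun n =>
    ((HomologicalComplex.shortExact_iff_degreewise_shortExact S).1 hS n).map_of_exact F

omit [T.Additive] [∀ a, (T.obj a).Additive]
  [∀ K L : CochainComplex A ℤ, HasMapBifunctor K L T (ComplexShape.up ℤ)]
  [∀ K : CochainComplex A ℤ, (tR T K).IsLeftAdjoint]
  [∀ K L M : CochainComplex A ℤ,
    HasGoodTrifunctor₁₂Obj T T K L M (ComplexShape.up ℤ) (ComplexShape.up ℤ)]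
  [∀ K L M : CochainComplex A ℤ,
    HasGoodTrifunctor₂₃Obj T T K L M (ComplexShape.up ℤ) (ComplexShape.up ℤ) (ComplexShape.up ℤ)] in
theorem three_of_map {S₁ S₂ : ShortComplex (CochainComplex A ℤ)} (φ : S₁ ⟶ S₂)
    (h₁ : S₁.ShortExact) (h₂ : S₂.ShortExact) :
    (QuasiIso ((FC).map φ.τ₂) → QuasiIso ((FC).map φ.τ₃) → QuasiIso ((FC).map φ.τ₁)) ∧
    (QuasiIso ((FC).map φ.τ₁) → QuasiIso ((FC).map φ.τ₃) → QuasiIso ((FC).map φ.τ₂)) ∧
    (QuasiIso ((FC).map φ.τ₁) → QuasiIso ((FC).map φ.τ₂) → QuasiIso ((FC).map φ.τ₃)) := by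
  let ψ := (FC).mapShortComplex.map φ
  exact ⟨fun a b => quasiIso_τ₁ ψ (shortExact_FC F h₁) (shortExact_FC F h₂) a b,
    fun a b => quasiIso_τ₂ ψ (shortExact_FC F h₁) (shortExact_FC F h₂) a b,
    fun a b => HomologicalComplex.HomologySequence.quasiIso_τ₃ ψ (shortExact_FC F h₁)
      (shortExact_FC F h₂) a b⟩

omit [T.Additive] [∀ a, (T.obj a).Additive]
  [∀ K L : CochainComplex A ℤ, HasMapBifunctor K L T (ComplexShape.up ℤ)]
  [∀ K : CochainComplex A ℤ, (tR T K).IsLeftAdjoint]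
  [∀ K L M : CochainComplex A ℤ,
    HasGoodTrifunctor₁₂Obj T T K L M (ComplexShape.up ℤ) (ComplexShape.up ℤ)]
  [∀ K L M : CochainComplex A ℤ,
    HasGoodTrifunctor₂₃Obj T T K L M (ComplexShape.up ℤ) (ComplexShape.up ℤ) (ComplexShape.up ℤ)]
  [PreservesFiniteLimits F] [PreservesFiniteColimits F] in
theorem quasiIso_iff_of_square {P Q P' Q' : CochainComplex A ℤ} (u : P ⟶ P') (v : Q ⟶ Q')
    (e : P ⟶ Q) (e' : P' ⟶ Q') (w : u ≫ e' = e ≫ v) [QuasiIso ((FC).map u)]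
    [QuasiIso ((FC).map v)] : QuasiIso ((FC).map e) ↔ QuasiIso ((FC).map e') := by
  have h : (FC).map u ≫ (FC).map e' = (FC).map e ≫ (FC).map v := by
    rw [← Functor.map_comp, w, Functor.map_comp]
  constructor
  · intro he
    haveI : QuasiIso ((FC).map u ≫ (FC).map e') := by rw [h]; infer_instance
    exact quasiIso_of_comp_left ((FC).map u) _
  · intro he
    haveI : QuasiIso ((FC).map e ≫ (FC).map v) := by rw [← h]; infer_instance
    exact quasiIso_of_comp_right _ ((FC).map v)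

omit [∀ K L M : CochainComplex A ℤ,
    HasGoodTrifunctor₁₂Obj T T K L M (ComplexShape.up ℤ) (ComplexShape.up ℤ)]
  [∀ K L M : CochainComplex A ℤ,
    HasGoodTrifunctor₂₃Obj T T K L M (ComplexShape.up ℤ) (ComplexShape.up ℤ) (ComplexShape.up ℤ)]
  [∀ K : CochainComplex A ℤ, (tR T K).IsLeftAdjoint] in
theorem nonempty_contractible_t2 (M : CochainComplex A ℤ) {W : CochainComplex A ℤ}
    (hW : Homotopy (𝟙 W) 0) : Nonempty (Homotopy (𝟙 (t2 T M W)) 0) :=
  ⟨(Homotopy.ofEq ((tL T M).map_id W).symm).trans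
    ((HomologicalComplex.mapBifunctorMapHomotopy₂ (𝟙 M) hW T (ComplexShape.up ℤ)).trans (Homotopy.ofEq (by
      refine HomologicalComplex.hom_ext _ _ fun n => mapBifunctor.hom_ext fun p q h => ?_
      rw [ι_mapBifunctorMap]
      simp)))⟩

omit [T.Additive] [∀ a, (T.obj a).Additive]
  [∀ K L : CochainComplex A ℤ, HasMapBifunctor K L T (ComplexShape.up ℤ)]
  [∀ K : CochainComplex A ℤ, (tR T K).IsLeftAdjoint]
  [∀ K L M : CochainComplex A ℤ,
    HasGoodTrifunctor₁₂Obj T T K L M (ComplexShape.up ℤ) (ComplexShape.up ℤ)]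
  [∀ K L M : CochainComplex A ℤ,
    HasGoodTrifunctor₂₃Obj T T K L M (ComplexShape.up ℤ) (ComplexShape.up ℤ) (ComplexShape.up ℤ)]
  [PreservesFiniteLimits F] [PreservesFiniteColimits F] in
theorem quasiIso_FC_of_contractible {P Q : CochainComplex A ℤ} (hP : Homotopy (𝟙 P) 0)
    (hQ : Homotopy (𝟙 Q) 0) (e : P ⟶ Q) : QuasiIso ((FC).map e) := by
  have hz : ∀ {R : CochainComplex A ℤ} (_ : Homotopy (𝟙 R) 0) (n : ℤ),
      IsZero (((FC).obj R).homology n) := fun {R} hR n =>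
    KFlatLib.isZero_homology_of_contractible
      ((Homotopy.ofEq ((FC).map_id R).symm).trans
        ((F.mapHomotopy hR).trans (Homotopy.ofEq ((FC).map_zero R R)))) n
  exact ⟨fun n => (quasiIsoAt_iff_isIso_homologyMap _ _).2 ((hz hP n).isIso (hz hQ n) _)⟩

section First

variable {M J I : CochainComplex A ℤ} (f₀ : t2 T M J ⟶ I)

theorem eval₁_three {S : ShortComplex (CochainComplex A ℤ)} (hS : KFlatLib.DegSplit S) :
    (QuasiIso ((FC).map (eval₁ α f₀ S.X₂)) → QuasiIso ((FC).map (eval₁ α f₀ S.X₃)) →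
      QuasiIso ((FC).map (eval₁ α f₀ S.X₁))) ∧
    (QuasiIso ((FC).map (eval₁ α f₀ S.X₁)) → QuasiIso ((FC).map (eval₁ α f₀ S.X₃)) →
      QuasiIso ((FC).map (eval₁ α f₀ S.X₂))) ∧
    (QuasiIso ((FC).map (eval₁ α f₀ S.X₁)) → QuasiIso ((FC).map (eval₁ α f₀ S.X₂)) →
      QuasiIso ((FC).map (eval₁ α f₀ S.X₃))) := by
  obtain ⟨hg⟩ := nonempty_degSplit_G (T := T) hS J
  obtain ⟨hsrc⟩ := nonempty_degSplit_tL T M hg (tL_comp_zero T M)
  let S₁ : ShortComplex (CochainComplex A ℤ) :=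
    ShortComplex.mk ((tL T M).map (gSeq T S J).f) ((tL T M).map (gSeq T S J).g) (tL_comp_zero T M)
  let φ : S₁ ⟶ gSeq T S I :=
    ShortComplex.homMk (eval₁ α f₀ S.X₃) (eval₁ α f₀ S.X₂) (eval₁ α f₀ S.X₁)
      (eval₁_natural α f₀ S.g).symm (eval₁_natural α f₀ S.f).symm
  obtain ⟨h1, h2, h3⟩ := three_of_map F φ (KFlatLib.shortExact_of_degSplit hsrc)
    (shortExact_G (T := T) hS I)
  exact ⟨fun a b => h3 b a, fun a b => h2 b a, fun a b => h1 b a⟩

theorem quasiIso_eval₁_contractible {W : CochainComplex A ℤ} (hW : Homotopy (𝟙 W) 0) :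
    QuasiIso ((FC).map (eval₁ α f₀ W)) := by
  obtain ⟨hG⟩ := nonempty_contractible_G (T := T) hW I
  obtain ⟨hG'⟩ := nonempty_contractible_G (T := T) hW J
  obtain ⟨hsrc⟩ := nonempty_contractible_t2 (T := T) M hG'
  exact quasiIso_FC_of_contractible F hsrc hG _

end First

section Second

variable (β : ∀ K L : CochainComplex A ℤ, t2 T K L ≅ t2 T L K)
  (hβ : ∀ {K K' L L' : CochainComplex A ℤ} (f : K ⟶ K') (g : L ⟶ L'),
    m2 (T := T) f g ≫ (β K' L').hom = (β K L).hom ≫ m2 (T := T) g f)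
  {N J I : CochainComplex A ℤ} (f₀ : t2 T N J ⟶ I)

include hβ in
theorem eval₂_three {S : ShortComplex (CochainComplex A ℤ)} (hS : KFlatLib.DegSplit S) :
    (QuasiIso ((FC).map (eval₂ α β f₀ S.X₂)) → QuasiIso ((FC).map (eval₂ α β f₀ S.X₃)) →
      QuasiIso ((FC).map (eval₂ α β f₀ S.X₁))) ∧
    (QuasiIso ((FC).map (eval₂ α β f₀ S.X₁)) → QuasiIso ((FC).map (eval₂ α β f₀ S.X₃)) →
      QuasiIso ((FC).map (eval₂ α β f₀ S.X₂))) ∧
    (QuasiIso ((FC).map (eval₂ α β f₀ S.X₁)) → QuasiIso ((FC).map (eval₂ α β f₀ S.X₂)) →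
      QuasiIso ((FC).map (eval₂ α β f₀ S.X₃))) := by
  obtain ⟨hg⟩ := nonempty_degSplit_G (T := T) hS J
  obtain ⟨hsrc⟩ := nonempty_degSplit_tL T N hS (tL_comp_zero T N)
  let S₁ : ShortComplex (CochainComplex A ℤ) :=
    ShortComplex.mk ((tL T N).map S.f) ((tL T N).map S.g) (tL_comp_zero T N)
  let φ : S₁ ⟶ gSeq T (gSeq T S J) I :=
    ShortComplex.homMk (eval₂ α β f₀ S.X₁) (eval₂ α β f₀ S.X₂) (eval₂ α β f₀ S.X₃)
      (eval₂_natural α β hβ f₀ S.f).symm (eval₂_natural α β hβ f₀ S.g).symm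
  exact three_of_map F φ (KFlatLib.shortExact_of_degSplit hsrc) (shortExact_G (T := T) hg I)

theorem quasiIso_eval₂_contractible {W : CochainComplex A ℤ} (hW : Homotopy (𝟙 W) 0) :
    QuasiIso ((FC).map (eval₂ α β f₀ W)) := by
  obtain ⟨hG'⟩ := nonempty_contractible_G (T := T) hW J
  obtain ⟨hG⟩ := nonempty_contractible_G (T := T) hG' I
  obtain ⟨hsrc⟩ := nonempty_contractible_t2 (T := T) N hW
  exact quasiIso_FC_of_contractible F hsrc hG _

end Second

end Groth.Agent.PerfDualLib.Gen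

namespace Groth.Agent.PerfDualLib.Gen

variable {A : Type*} [Category* A] [Abelian A] {T : A ⥤ A ⥤ A} [T.Additive]
  [∀ a, (T.obj a).Additive]
  [∀ K L : CochainComplex A ℤ, HasMapBifunctor K L T (ComplexShape.up ℤ)]
  [∀ K : CochainComplex A ℤ, (tR T K).IsLeftAdjoint]
  [∀ K L M : CochainComplex A ℤ,
    HasGoodTrifunctor₁₂Obj T T K L M (ComplexShape.up ℤ) (ComplexShape.up ℤ)]
  [∀ K L M : CochainComplex A ℤ,
    HasGoodTrifunctor₂₃Obj T T K L M (ComplexShape.up ℤ) (ComplexShape.up ℤ) (ComplexShape.up ℤ)]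
  (α : bifunctorComp₁₂ T T ≅ bifunctorComp₂₃ T T)
  {ι : Type*} {B : ι → Type*} [∀ j, Category (B j)] [∀ j, Abelian (B j)]
  (F : ∀ j, A ⥤ B j) [∀ j, (F j).Additive] [∀ j, PreservesFiniteLimits (F j)]
  [∀ j, PreservesFiniteColimits (F j)] (p : ι → Prop)

/-- A quasi-isomorphism seen by the family. -/
def FQ {C D : CochainComplex A ℤ} (f : C ⟶ D) : Prop :=
  ∀ j, p j → QuasiIso (((F j).mapHomologicalComplex (ComplexShape.up ℤ)).map f)

/-- A property which allows dévissage. -/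
structure Steps (P : CochainComplex A ℤ → Prop) : Prop where
  qis : ∀ {K K' : CochainComplex A ℤ} (κ : K ⟶ K'), FQ F p κ → (P K ↔ P K')
  contractible : ∀ {W : CochainComplex A ℤ}, Homotopy (𝟙 W) 0 → P W
  ext₁ : ∀ {S : ShortComplex (CochainComplex A ℤ)}, KFlatLib.DegSplit S → P S.X₂ → P S.X₃ → P S.X₁
  ext₂ : ∀ {S : ShortComplex (CochainComplex A ℤ)}, KFlatLib.DegSplit S → P S.X₁ → P S.X₃ → P S.X₂
  ext₃ : ∀ {S : ShortComplex (CochainComplex A ℤ)}, KFlatLib.DegSplit S → P S.X₁ → P S.X₂ → P S.X₃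

theorem steps_eval₁ {M J I : CochainComplex A ℤ} (f₀ : t2 T M J ⟶ I)
    (hJ : ∀ {K K' : CochainComplex A ℤ} (κ : K ⟶ K'), FQ F p κ → FQ F p ((Gmap T κ).app J))
    (hI : ∀ {K K' : CochainComplex A ℤ} (κ : K ⟶ K'), FQ F p κ → FQ F p ((Gmap T κ).app I))
    (hM : ∀ {C D : CochainComplex A ℤ} (f : C ⟶ D), FQ F p f → FQ F p ((tL T M).map f)) :
    Steps F p (fun K => FQ F p (eval₁ α f₀ K)) where
  qis κ hκ := by
    have key : ∀ j, p j → (QuasiIso (((F j).mapHomologicalComplex (ComplexShape.up ℤ)).map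
        (eval₁ α f₀ _)) ↔ _) := fun j hj =>
      @quasiIso_iff_of_square _ _ _ _ _ _ (F j) _ _ _ _ _ _ _ _ _ (eval₁_natural α f₀ κ)
        (hM _ (hJ κ hκ) j hj) (hI κ hκ j hj)
    exact ⟨fun h j hj => (key j hj).2 (h j hj), fun h j hj => (key j hj).1 (h j hj)⟩
  contractible hW j _ := quasiIso_eval₁_contractible α (F j) f₀ hW
  ext₁ hS h h' j hj := (eval₁_three α (F j) f₀ hS).1 (h j hj) (h' j hj)
  ext₂ hS h h' j hj := (eval₁_three α (F j) f₀ hS).2.1 (h j hj) (h' j hj)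
  ext₃ hS h h' j hj := (eval₁_three α (F j) f₀ hS).2.2 (h j hj) (h' j hj)

theorem steps_eval₂ (β : ∀ K L : CochainComplex A ℤ, t2 T K L ≅ t2 T L K)
    (hβ : ∀ {K K' L L' : CochainComplex A ℤ} (f : K ⟶ K') (g : L ⟶ L'),
      m2 (T := T) f g ≫ (β K' L').hom = (β K L).hom ≫ m2 (T := T) g f)
    {N J I : CochainComplex A ℤ} (f₀ : t2 T N J ⟶ I)
    (hJ : ∀ {K K' : CochainComplex A ℤ} (κ : K ⟶ K'), FQ F p κ → FQ F p ((Gmap T κ).app J))
    (hI : ∀ {K K' : CochainComplex A ℤ} (κ : K ⟶ K'), FQ F p κ → FQ F p ((Gmap T κ).app I))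
    (hN : ∀ {C D : CochainComplex A ℤ} (f : C ⟶ D), FQ F p f → FQ F p ((tL T N).map f)) :
    Steps F p (fun K => FQ F p (eval₂ α β f₀ K)) where
  qis κ hκ := by
    have key : ∀ j, p j → (QuasiIso (((F j).mapHomologicalComplex (ComplexShape.up ℤ)).map
        (eval₂ α β f₀ _)) ↔ _) := fun j hj =>
      @quasiIso_iff_of_square _ _ _ _ _ _ (F j) _ _ _ _ _ _ _ _ _ (eval₂_natural α β hβ f₀ κ)
        (hN κ hκ j hj) (hI _ (hJ κ hκ) j hj)
    exact ⟨fun h j hj => (key j hj).1 (h j hj), fun h j hj => (key j hj).2 (h j hj)⟩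
  contractible hW j _ := quasiIso_eval₂_contractible α (F j) β f₀ hW
  ext₁ hS h h' j hj := (eval₂_three α (F j) β hβ f₀ hS).1 (h j hj) (h' j hj)
  ext₂ hS h h' j hj := (eval₂_three α (F j) β hβ f₀ hS).2.1 (h j hj) (h' j hj)
  ext₃ hS h h' j hj := (eval₂_three α (F j) β hβ f₀ hS).2.2 (h j hj) (h' j hj)

omit [T.Additive] [∀ a, (T.obj a).Additive]
  [∀ K L : CochainComplex A ℤ, HasMapBifunctor K L T (ComplexShape.up ℤ)]
  [∀ K : CochainComplex A ℤ, (tR T K).IsLeftAdjoint]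
  [∀ K L M : CochainComplex A ℤ,
    HasGoodTrifunctor₁₂Obj T T K L M (ComplexShape.up ℤ) (ComplexShape.up ℤ)]
  [∀ K L M : CochainComplex A ℤ,
    HasGoodTrifunctor₂₃Obj T T K L M (ComplexShape.up ℤ) (ComplexShape.up ℤ) (ComplexShape.up ℤ)]
  [∀ j, PreservesFiniteLimits (F j)] [∀ j, PreservesFiniteColimits (F j)] in
theorem FQ.of_quasiIso [∀ j, (F j).PreservesHomology] {C D : CochainComplex A ℤ} (f : C ⟶ D)
    [QuasiIso f] : FQ F p f := fun _ _ => inferInstance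

end Groth.Agent.PerfDualLib.Gen
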