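import Groth.Agent.PerfDualLib.IntHom

/-!
# Internal homs and quasi-isomorphisms detected by a family of exact functors
-/

set_option autoImplicit false
set_option backward.isDefEq.respectTransparency false
set_option backward.isDefEq.respectTransparency.types false

open CategoryTheory CategoryTheory.Limits HomologicalComplex

namespace Groth.Agent.PerfDualLib.Gen

variable {A : Type*} [Category* A] [Abelian A] {T : A ⥤ A ⥤ A} [T.Additive]
  [∀ a, (T.obj a).Additive]
  [∀ K L : CochainComplex A ℤ, HasMapBifunctor K L T (ComplexShape.up ℤ)]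
  [∀ K : CochainComplex A ℤ, (tR T K).IsLeftAdjoint]
  {ι : Type*} {B : ι → Type*} [∀ j, Category (B j)] [∀ j, Abelian (B j)]
  (F : ∀ j, A ⥤ B j) [∀ j, (F j).Additive] [∀ j, PreservesFiniteLimits (F j)]
  [∀ j, PreservesFiniteColimits (F j)]

omit [T.Additive] [∀ a, (T.obj a).Additive]
  [∀ K L : CochainComplex A ℤ, HasMapBifunctor K L T (ComplexShape.up ℤ)]
  [∀ K : CochainComplex A ℤ, (tR T K).IsLeftAdjoint] in
theorem shortExact_map {S : ShortComplex (CochainComplex A ℤ)} (hS : S.ShortExact) (j : ι) :
    (S.map ((F j).mapHomologicalComplex (ComplexShape.up ℤ))).ShortExact :=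
  shortExact_of_degreewise_shortExact _ fun n =>
    ((HomologicalComplex.shortExact_iff_degreewise_shortExact S).1 hS n).map_of_exact (F j)

/-- The internal hom turns quasi-isomorphisms seen by the family into such quasi-isomorphisms. -/
theorem quasiIso_map_Gmap (I : CochainComplex A ℤ)
    (hI : ∀ C : CochainComplex A ℤ,
      (∀ j n, IsZero ((((F j).mapHomologicalComplex (ComplexShape.up ℤ)).obj C).homology n)) →
      ∀ j n, IsZero ((((F j).mapHomologicalComplex (ComplexShape.up ℤ)).obj ((G T C).obj I)).homology n))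
    {K K' : CochainComplex A ℤ} (κ : K ⟶ K')
    (hκ : ∀ j, QuasiIso (((F j).mapHomologicalComplex (ComplexShape.up ℤ)).map κ)) (j : ι) :
    QuasiIso (((F j).mapHomologicalComplex (ComplexShape.up ℤ)).map ((Gmap T κ).app I)) := by
  obtain ⟨W, Q, i, p, h, ⟨hW⟩, ⟨hS⟩, hi⟩ := exists_degSplit_factor κ
  subst hi
  let S₁ : ShortComplex (CochainComplex A ℤ) :=
    ShortComplex.mk (biprod.inl : W ⟶ W ⊞ K') biprod.snd biprod.inl_snd
  have hS₁ : KFlatLib.DegSplit S₁ := fun n =>
    (ShortComplex.Splitting.map
      { r := biprod.fst, s := biprod.inr, f_r := biprod.inl_fst, s_g := biprod.inr_snd,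
        id := biprod.total } (eval A (ComplexShape.up ℤ) n))
  have hz : ∀ {C : CochainComplex A ℤ} (_ : Homotopy (𝟙 C) 0) (j : ι) (n : ℤ),
      IsZero ((((F j).mapHomologicalComplex (ComplexShape.up ℤ)).obj C).homology n) := fun {C} hC j n =>
    KFlatLib.isZero_homology_of_contractible
      ((Homotopy.ofEq (((F j).mapHomologicalComplex (ComplexShape.up ℤ)).map_id C).symm).trans
        (((F j).mapHomotopy hC).trans
          (Homotopy.ofEq (((F j).mapHomologicalComplex (ComplexShape.up ℤ)).map_zero C C)))) n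
  obtain ⟨hc⟩ := nonempty_contractible_G (T := T) hW I
  have h1 : QuasiIso (((F j).mapHomologicalComplex (ComplexShape.up ℤ)).map ((Gmap T S₁.g).app I)) :=
    KFlatLib.quasiIso_f_of_acyclic (shortExact_map F (shortExact_G (T := T) hS₁ I) j) (hz hc j)
  have hsnd : ∀ j, QuasiIso (((F j).mapHomologicalComplex (ComplexShape.up ℤ)).map S₁.g) := fun j =>
    KFlatLib.quasiIso_g_of_acyclic (shortExact_map F (KFlatLib.shortExact_of_degSplit hS₁) j) (hz hW j)
  have hii : ∀ j, QuasiIso (((F j).mapHomologicalComplex (ComplexShape.up ℤ)).map i) := fun j => by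
    haveI := hsnd j
    haveI : QuasiIso (((F j).mapHomologicalComplex (ComplexShape.up ℤ)).map i ≫
        ((F j).mapHomologicalComplex (ComplexShape.up ℤ)).map S₁.g) := by
      rw [← Functor.map_comp]; exact hκ j
    exact quasiIso_of_comp_right (((F j).mapHomologicalComplex (ComplexShape.up ℤ)).map i)
      (((F j).mapHomologicalComplex (ComplexShape.up ℤ)).map S₁.g)
  have h2 : QuasiIso (((F j).mapHomologicalComplex (ComplexShape.up ℤ)).map ((Gmap T i).app I)) := by
    refine KFlatLib.quasiIso_g_of_acyclic (shortExact_map F (shortExact_G (T := T) hS I) j) (hI Q ?_ j)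
    exact fun j n => (exactAt_iff_isZero_homology _ _).1
      ((shortExact_map F (KFlatLib.shortExact_of_degSplit hS) j).acyclic_X₃ (hii j) n)
  rw [← Gmap_comp_app, Functor.map_comp]
  infer_instance

end Groth.Agent.PerfDualLib.Gen
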