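import Groth.Agent.PerfDualLib.Homotopy
import Groth.Agent.TensorAssocLib.Derived
import Groth.Agent.KFlatLib.CoprodKFlat
import Mathlib.Algebra.Homology.GrothendieckAbelian
import Mathlib.CategoryTheory.Adjunction.AdjointFunctorTheorems
import Mathlib.CategoryTheory.Adjunction.Mates
import Mathlib.CategoryTheory.Abelian.GrothendieckCategory.Subobject

/-!
# The internal hom of complexes of modules on a scheme

`G K` is the right adjoint of `- ⊗ K` on complexes; it is contravariant in `K` and sends degreewise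
split sequences to degreewise split sequences.
-/

set_option autoImplicit false
set_option backward.isDefEq.respectTransparency false
set_option backward.isDefEq.respectTransparency.types false

set_option maxHeartbeats 1000000

universe u

open CategoryTheory CategoryTheory.Limits AlgebraicGeometry HomologicalComplex

namespace Groth.Agent.PerfDualLib

section Generic

variable {C : Type*} [Category* C] {L L' R R' : C ⥤ C} (a : L ⊣ R) (a' : L' ⊣ R') (α : L ⟶ L')

theorem symm_comp_conjugate {N I : C} (f : N ⟶ R'.obj I) :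
    (a.homEquiv N I).symm (f ≫ (conjugateEquiv a' a α).app I) = α.app N ≫ (a'.homEquiv N I).symm f := by
  have h := conjugateEquiv_counit a' a α I
  have h2 := α.naturality f
  simp only [Adjunction.homEquiv_counit, Functor.map_comp, Category.assoc]
  rw [h, reassoc_of% h2]

variable [Preadditive C] [L.Additive]

theorem symm_zero {N I : C} : (a.homEquiv N I).symm 0 = 0 := by
  rw [Adjunction.homEquiv_counit, Functor.map_zero, zero_comp]

end Generic

namespace Gen

variable {A : Type*} [Category* A] [Abelian A] (T : A ⥤ A ⥤ A) [T.Additive]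
  [∀ a, (T.obj a).Additive]
  [∀ K L : CochainComplex A ℤ, HasMapBifunctor K L T (ComplexShape.up ℤ)]

/-- `- ⊗ K`. -/
noncomputable abbrev tR (K : CochainComplex A ℤ) : CochainComplex A ℤ ⥤ CochainComplex A ℤ :=
  KFlatLib.bimap₁ T K

/-- `N ⊗ -`. -/
noncomputable abbrev tL (N : CochainComplex A ℤ) : CochainComplex A ℤ ⥤ CochainComplex A ℤ :=
  T.map₂CochainComplex.obj N

variable [∀ K : CochainComplex A ℤ, (tR T K).IsLeftAdjoint]

/-- The internal hom. -/
noncomputable def G (K : CochainComplex A ℤ) : CochainComplex A ℤ ⥤ CochainComplex A ℤ := (tR T K).rightAdjoint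

/-- The adjunction `- ⊗ K ⊣ G K`. -/
noncomputable def gAdj (K : CochainComplex A ℤ) : tR T K ⊣ G T K := Adjunction.ofIsLeftAdjoint _

/-- Contravariance of the internal hom. -/
noncomputable def Gmap {K K' : CochainComplex A ℤ} (κ : K ⟶ K') : G T K' ⟶ G T K :=
  conjugateEquiv (gAdj T K') (gAdj T K) (T.map₂CochainComplex.flip.map κ)

variable {T}

/-- The adjunct. -/
noncomputable abbrev adjunct {K N I : CochainComplex A ℤ} (a : N ⟶ (G T K).obj I) : (tR T K).obj N ⟶ I :=
  ((gAdj T K).homEquiv N I).symm a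

theorem adjunct_injective {K N I : CochainComplex A ℤ} : Function.Injective (adjunct (T := T) (K := K) (N := N) (I := I)) :=
  Equiv.injective _

theorem adjunct_comp_Gmap {K K' N I : CochainComplex A ℤ} (κ : K ⟶ K') (a : N ⟶ (G T K').obj I) :
    adjunct (a ≫ (Gmap T κ).app I) = (tL T N).map κ ≫ adjunct a :=
  symm_comp_conjugate (gAdj T K) (gAdj T K') _ a

theorem adjunct_comp {K N N' I : CochainComplex A ℤ} (b : N' ⟶ N) (a : N ⟶ (G T K).obj I) :
    adjunct (b ≫ a) = (tR T K).map b ≫ adjunct a :=
  (gAdj T K).homEquiv_naturality_left_symm b a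

theorem adjunct_comp_map {K N I I' : CochainComplex A ℤ} (a : N ⟶ (G T K).obj I) (f : I ⟶ I') :
    adjunct (a ≫ (G T K).map f) = adjunct a ≫ f :=
  (gAdj T K).homEquiv_naturality_right_symm a f

theorem adjunct_zero {K N I : CochainComplex A ℤ} : adjunct (0 : N ⟶ (G T K).obj I) = 0 :=
  haveI : (tR T K).Additive := KFlatLib.additive_bimap₁ (T) K
  symm_zero (gAdj T K)

theorem Gmap_comp_app {K K' K'' : CochainComplex A ℤ} (κ : K ⟶ K') (κ' : K' ⟶ K'') (I : CochainComplex A ℤ) :
    (Gmap T κ').app I ≫ (Gmap T κ).app I = (Gmap T (κ ≫ κ')).app I := by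
  refine adjunct_injective ?_
  rw [adjunct_comp_Gmap, ← Category.id_comp ((Gmap T κ').app I),
    ← Category.id_comp ((Gmap T (κ ≫ κ')).app I), adjunct_comp_Gmap, adjunct_comp_Gmap,
    Functor.map_comp, Category.assoc]

theorem Gmap_zero_app {K K' : CochainComplex A ℤ} (I : CochainComplex A ℤ) : (Gmap T (0 : K ⟶ K')).app I = 0 := by
  refine adjunct_injective ?_
  rw [adjunct_zero, ← Category.id_comp ((Gmap T (0 : K ⟶ K')).app I), adjunct_comp_Gmap]
  have h : (tL T ((G T K').obj I)).map (0 : K ⟶ K') = 0 := by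
    refine HomologicalComplex.hom_ext _ _ fun n => mapBifunctor.hom_ext fun p q h => ?_
    change _ ≫ (mapBifunctorMap (𝟙 _) (0 : K ⟶ K') (T) _).f n = _ ≫ _
    rw [ι_mapBifunctorMap]
    simp
  rw [h, zero_comp]

variable (T) in
/-- `N ⊗ -` preserves degreewise splittings. -/
noncomputable def degSplitL (N : CochainComplex A ℤ) {S : ShortComplex (CochainComplex A ℤ)} (hS : KFlatLib.DegSplit S) :
    ∀ n : ℤ, ∃ (r : ((tL T N).obj S.X₂).X n ⟶ ((tL T N).obj S.X₁).X n)
      (s : ((tL T N).obj S.X₃).X n ⟶ ((tL T N).obj S.X₂).X n),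
      ((tL T N).map S.f).f n ≫ r = 𝟙 _ ∧ s ≫ ((tL T N).map S.g).f n = 𝟙 _ ∧
        r ≫ ((tL T N).map S.f).f n + ((tL T N).map S.g).f n ≫ s = 𝟙 _ := fun n => by
  let T := T
  have hmap : ∀ {K K' : CochainComplex A ℤ} (f : K ⟶ K') (p q : ℤ) (h : p + q = n),
      ιMapBifunctor N K T (ComplexShape.up ℤ) p q n h ≫ ((tL T N).map f).f n =
        (T.obj (N.X p)).map (f.f q) ≫ ιMapBifunctor N K' T (ComplexShape.up ℤ) p q n h := by
    intro K K' f p q h
    change _ ≫ (mapBifunctorMap (𝟙 N) f T _).f n = _
    rw [ι_mapBifunctorMap]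
    simp [T]
  refine ⟨mapBifunctorDesc fun p q h => (T.obj (N.X p)).map (hS q).r ≫
      ιMapBifunctor N S.X₁ T (ComplexShape.up ℤ) p q n h,
    mapBifunctorDesc fun p q h => (T.obj (N.X p)).map (hS q).s ≫
      ιMapBifunctor N S.X₂ T (ComplexShape.up ℤ) p q n h, ?_, ?_, ?_⟩
  · refine mapBifunctor.hom_ext fun p q h => ?_
    rw [← Category.assoc, hmap, Category.assoc, ι_mapBifunctorDesc, ← Category.assoc,
      ← Functor.map_comp]
    erw [(hS q).f_r, CategoryTheory.Functor.map_id, Category.id_comp, Category.comp_id]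
  · refine mapBifunctor.hom_ext fun p q h => ?_
    rw [← Category.assoc, ι_mapBifunctorDesc, Category.assoc, hmap, ← Category.assoc,
      ← Functor.map_comp]
    erw [(hS q).s_g, CategoryTheory.Functor.map_id, Category.id_comp, Category.comp_id]
  · refine mapBifunctor.hom_ext fun p q h => ?_
    rw [Preadditive.comp_add, ← Category.assoc, ι_mapBifunctorDesc, Category.assoc, hmap,
      ← Category.assoc, ← Functor.map_comp, ← Category.assoc, hmap, Category.assoc,
      ι_mapBifunctorDesc, ← Category.assoc, ← Functor.map_comp, ← Preadditive.add_comp,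
      ← Functor.map_add]
    erw [(hS q).id, CategoryTheory.Functor.map_id, Category.id_comp, Category.comp_id]

variable (T) in
/-- `N ⊗ -` preserves degreewise splittings. -/
theorem nonempty_degSplit_tL (N : CochainComplex A ℤ) {S : ShortComplex (CochainComplex A ℤ)} (hS : KFlatLib.DegSplit S)
    (w : (tL T N).map S.f ≫ (tL T N).map S.g = 0) :
    Nonempty (KFlatLib.DegSplit (ShortComplex.mk ((tL T N).map S.f) ((tL T N).map S.g) w)) := by
  choose r s h1 h2 h3 using degSplitL T N hS
  exact ⟨fun n => { r := r n, s := s n, f_r := h1 n, s_g := h2 n, id := h3 n }⟩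

variable (T) in
theorem tL_comp_zero (N : CochainComplex A ℤ) {S : ShortComplex (CochainComplex A ℤ)} : (tL T N).map S.f ≫ (tL T N).map S.g = 0 := by
  rw [← Functor.map_comp, S.zero]
  refine HomologicalComplex.hom_ext _ _ fun n => mapBifunctor.hom_ext fun p q h => ?_
  change _ ≫ (mapBifunctorMap (𝟙 _) (0 : S.X₁ ⟶ S.X₃) (T) _).f n = _ ≫ _
  rw [ι_mapBifunctorMap]
  simp

variable (T) in
/-- Contractible sources stay contractible after tensoring. -/
noncomputable def tRContractible (K : CochainComplex A ℤ) {W : CochainComplex A ℤ} (hW : Homotopy (𝟙 W) 0) :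
    Homotopy (𝟙 ((tR T K).obj W)) 0 :=
  KFlatLib.contractibleBimap₁ (T) K hW

/-- A map into an internal hom is null homotopic if its adjunct is. -/
theorem nonempty_null_of_adjunct {K N I : CochainComplex A ℤ} (φ : N ⟶ (G T K).obj I)
    (h : Homotopy (adjunct φ) 0) : Nonempty (Homotopy φ 0) := by
  let W := CochainComplex.mappingCone (𝟙 N)
  have hs := KFlatLib.degSplitBimap₁ (T) K
    (CochainComplex.mappingCone.triangleRotateShortComplexSplitting (𝟙 N))
  obtain ⟨ψ, hψ⟩ := exists_extension hs (adjunct φ) h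
  let i : N ⟶ W := CochainComplex.mappingCone.inr (𝟙 N)
  have hφ : φ = i ≫ (gAdj T K).homEquiv W I ψ := by
    refine adjunct_injective ?_
    rw [adjunct_comp]
    exact hψ.symm.trans (congrArg ((tR T K).map i ≫ ·) (Equiv.symm_apply_apply _ ψ).symm)
  exact ⟨(Homotopy.ofEq hφ).trans
    (compNull (nullOfContractible (KFlatLib.coneIdContractible N) _) i)⟩

/-- The adjunct of a null homotopic map is null homotopic. -/
theorem nonempty_adjunct_null {K N I : CochainComplex A ℤ} (φ : N ⟶ (G T K).obj I) (h : Homotopy φ 0) :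
    Nonempty (Homotopy (adjunct φ) 0) := by
  let W := CochainComplex.mappingCone (𝟙 N)
  obtain ⟨ψ, hψ⟩ := exists_extension
    (S := CochainComplex.mappingCone.triangleRotateShortComplex (𝟙 N))
    (CochainComplex.mappingCone.triangleRotateShortComplexSplitting (𝟙 N)) φ h
  have hadj : adjunct φ = (tR T K).map (CochainComplex.mappingCone.inr (𝟙 N)) ≫ adjunct ψ := by
    rw [← adjunct_comp]
    exact congrArg adjunct hψ.symm
  exact ⟨(Homotopy.ofEq hadj).trans
    (compNull (nullOfContractible (tRContractible T K (KFlatLib.coneIdContractible N)) _) _)⟩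

/-- The internal hom out of a contractible complex is contractible. -/
theorem nonempty_contractible_G {W : CochainComplex A ℤ} (hW : Homotopy (𝟙 W) 0) (I : CochainComplex A ℤ) :
    Nonempty (Homotopy (𝟙 ((G T W).obj I)) 0) := by
  refine nonempty_null_of_adjunct _ ?_
  refine nullOfContractible ?_ _
  exact (Homotopy.ofEq ((tL T ((G T W).obj I)).map_id W).symm).trans
    ((HomologicalComplex.mapBifunctorMapHomotopy₂ (𝟙 ((G T W).obj I)) hW (T)
      (ComplexShape.up ℤ)).trans (Homotopy.ofEq (by
        refine HomologicalComplex.hom_ext _ _ fun n => mapBifunctor.hom_ext fun p q h => ?_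
        rw [ι_mapBifunctorMap]
        simp)))

variable (T) in
/-- The sequence of internal homs. -/
noncomputable abbrev gSeq (S : ShortComplex (CochainComplex A ℤ)) (I : CochainComplex A ℤ) : ShortComplex (CochainComplex A ℤ) :=
  ShortComplex.mk ((Gmap T S.g).app I) ((Gmap T S.f).app I)
    (by rw [Gmap_comp_app, S.zero, Gmap_zero_app])

/-- The internal hom sends degreewise split sequences to degreewise split sequences. -/
theorem nonempty_degSplit_G {S : ShortComplex (CochainComplex A ℤ)} (hS : KFlatLib.DegSplit S) (I : CochainComplex A ℤ) :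
    Nonempty (KFlatLib.DegSplit (gSeq T S I)) := by
  have hsplit := fun N : CochainComplex A ℤ => nonempty_degSplit_tL T N hS (tL_comp_zero T N)
  have hmono : Mono ((Gmap T S.g).app I) := by
    constructor
    intro Z a b hab
    refine adjunct_injective ?_
    obtain ⟨hN⟩ := hsplit Z
    haveI := (KFlatLib.shortExact_of_degSplit hN).epi_g
    rw [← cancel_epi ((tL T Z).map S.g), ← adjunct_comp_Gmap, ← adjunct_comp_Gmap, hab]
  have hlift : ∀ {Z : CochainComplex A ℤ} (a : Z ⟶ (G T S.X₂).obj I), a ≫ (Gmap T S.f).app I = 0 →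
      ∃ b, b ≫ (Gmap T S.g).app I = a := by
    intro Z a ha
    obtain ⟨hN⟩ := hsplit Z
    have h0 : (tL T Z).map S.f ≫ adjunct a = 0 := by rw [← adjunct_comp_Gmap, ha, adjunct_zero]
    obtain ⟨b, hb⟩ := CokernelCofork.IsColimit.desc'
      (KFlatLib.shortExact_of_degSplit hN).gIsCokernel (adjunct a) h0
    refine ⟨(gAdj T S.X₃).homEquiv Z I b, adjunct_injective ?_⟩
    rw [adjunct_comp_Gmap, adjunct, Equiv.symm_apply_apply]
    exact hb
  have hex : (gSeq T S I).Exact := by
    haveI : Mono (gSeq T S I).f := hmono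
    refine ShortComplex.exact_of_f_is_kernel _ (KernelFork.IsLimit.ofι' _ _ fun {Z} a ha => ?_)
    exact ⟨(hlift a ha).choose, (hlift a ha).choose_spec⟩
  have hsurj : ∀ n : ℤ, ∃ s : ((G T S.X₁).obj I).X n ⟶ ((G T S.X₂).obj I).X n,
      s ≫ ((Gmap T S.f).app I).f n = 𝟙 _ := by
    intro n
    obtain ⟨a, ha⟩ := exists_hom_disk (C := (G T S.X₁).obj I) (𝟙 (((G T S.X₁).obj I).X n))
    obtain ⟨hN⟩ := hsplit (disk (((G T S.X₁).obj I).X n) n)
    obtain ⟨b, hb⟩ := exists_extension hN (adjunct a)
      (nullOfContractible (tRContractible T _ (diskContractible _ n)) _)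
    refine ⟨(doubleXIso₀ (𝟙 _) (show (ComplexShape.up ℤ).Rel n (n + 1) from rfl)).inv ≫
      ((gAdj T S.X₂).homEquiv _ I b).f n, ?_⟩
    have hba : (gAdj T S.X₂).homEquiv _ I b ≫ (Gmap T S.f).app I = a := by
      refine adjunct_injective ?_
      rw [adjunct_comp_Gmap, adjunct, Equiv.symm_apply_apply]
      exact hb
    rw [Category.assoc, ← comp_f, hba, ha]
  choose s hs using hsurj
  exact ⟨fun n =>
    haveI : Mono ((gSeq T S I).map (eval A (ComplexShape.up ℤ) n)).f :=
      haveI := hmono
      inferInstanceAs (Mono ((eval A (ComplexShape.up ℤ) n).map ((Gmap T S.g).app I)))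
    ShortComplex.Splitting.ofExactOfSection _
      (hex.map_of_mono_of_preservesKernel (eval A (ComplexShape.up ℤ) n) hmono inferInstance)
      (s n) (hs n) inferInstance⟩

theorem shortExact_G {S : ShortComplex (CochainComplex A ℤ)} (hS : KFlatLib.DegSplit S) (I : CochainComplex A ℤ) :
    (gSeq T S I).ShortExact :=
  (nonempty_degSplit_G hS I).elim KFlatLib.shortExact_of_degSplit

end Gen

variable {X : Scheme.{u}}

/-- Complexes of modules. -/
abbrev Cx (X : Scheme.{u}) : Type _ := CochainComplex X.Modules ℤ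

/-- `- ⊗ K`. -/
noncomputable abbrev tR (K : Cx X) : Cx X ⥤ Cx X := KFlatLib.bimap₁ (DCoh.tensorBi (X := X)) K

/-- `N ⊗ -`. -/
noncomputable abbrev tL (N : Cx X) : Cx X ⥤ Cx X := (DCoh.tensorCx (X := X)).obj N

instance preservesColimits_tR (K : Cx X) : PreservesColimitsOfSize.{u, u} (tR K) :=
  ⟨fun {J} _ =>
    haveI : ∀ Y : X.Modules, PreservesColimitsOfShape J ((DCoh.tensorBi (X := X)).flip.obj Y) :=
      fun Y =>
        haveI : PreservesColimitsOfSize.{u, u} ((DCoh.tensorBi (X := X)).flip.obj Y) :=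
          ModSiteLib.preservesColimits_tensor_flip X.sheaf Y
        inferInstance
    Groth.Agent.ModSiteLib.BimapExact.preservesColimitsOfShape (DCoh.tensorBi (X := X)) K⟩

instance isLeftAdjoint_tR (K : Cx X) : (tR K).IsLeftAdjoint :=
  have : WellPowered.{u} (Cx X)ᵒᵖ :=
    @Abelian.wellPowered_opposite _ _ _ _ (IsGrothendieckAbelian.wellPowered.{u} (Cx X))
  isLeftAdjoint_of_preservesColimits_of_isSeparating (isSeparator_separator (Cx X)) _

end Groth.Agent.PerfDualLib
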