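import Groth.Agent.PerfDualLib.GenLocal
import Groth.Agent.DCohRestrLib.Support
import Groth.Agent.KFlatLib.AlgMore
import Groth.Agent.KFlatLib.Factor

/-!
# Locality of the internal hom
-/

set_option autoImplicit false
set_option backward.isDefEq.respectTransparency false
set_option backward.isDefEq.respectTransparency.types false
set_option maxHeartbeats 1000000

universe u

open CategoryTheory CategoryTheory.Limits AlgebraicGeometry HomologicalComplex

attribute [local instance] HasDerivedCategory.standard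

namespace Groth.Agent.PerfDualLib

variable {X : Scheme.{u}}

/-- The bifunctor. -/
noncomputable abbrev Tb (X : Scheme.{u}) : X.Modules ⥤ X.Modules ⥤ X.Modules :=
  DCoh.tensorBi (X := X)

/-- The internal hom complex. -/
noncomputable abbrev iG (K I : Cx X) : Cx X := (Gen.G (Tb X) K).obj I

/-- Contravariance of the internal hom complex. -/
noncomputable abbrev gm {K K' : Cx X} (κ : K ⟶ K') (I : Cx X) : iG K' I ⟶ iG K I :=
  (Gen.Gmap (Tb X) κ).app I

/-- A module in one degree, free on an open. -/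
noncomputable abbrev sf (V : X.Opens) (n : ℤ) : Cx X :=
  (single X.Modules (ComplexShape.up ℤ) n).obj (KFlatLib.freeU V)

/-- The complex of stalks of `C` is acyclic on `U`. -/
def AcyOn (U : X.Opens) (C : Cx X) : Prop :=
  ∀ x : X, x ∈ U → ∀ n : ℤ, IsZero (((KFlatLib.stalkCx X x).obj C).homology n)

/-- A quasi-isomorphism on the stalks over `U`. -/
def QisOn (U : X.Opens) {C D : Cx X} (f : C ⟶ D) : Prop :=
  ∀ x : X, x ∈ U → QuasiIso ((KFlatLib.stalkCx X x).map f)

theorem QisOn.of_quasiIso (U : X.Opens) {C D : Cx X} (f : C ⟶ D) [h : QuasiIso f] : QisOn U f :=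
  fun x _ => (KFlatLib.quasiIso_iff_stalks f).1 h x

theorem quasiIso_of_qisOn_top {C D : Cx X} {f : C ⟶ D} (h : QisOn ⊤ f) : QuasiIso f :=
  (KFlatLib.quasiIso_iff_stalks f).2 fun x => h x trivial

theorem QisOn.mono {U V : X.Opens} (hVU : V ≤ U) {C D : Cx X} {f : C ⟶ D} (h : QisOn U f) :
    QisOn V f := fun x hx => h x (hVU hx)

theorem subsingleton_stalk_freeU {V : X.Opens} {x : X} (hx : x ∉ V) :
    IsZero ((DerSch.stalkFunctor X x).obj (KFlatLib.freeU V)) := by
  rw [IsZero.iff_id_eq_zero]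
  apply (KFlatLib.skyHomEquiv x (KFlatLib.freeU V) _).injective
  apply (KFlatLib.freeUEquiv V _).injective
  exact KFlatLib.skyObj_ext x _ _ _ fun h => (hx h).elim

/-- The stalks outside `V` of `freeU V` vanish. -/
noncomputable def stalkSfContractible {V : X.Opens} {x : X} (hx : x ∉ V) (n : ℤ) :
    Homotopy (𝟙 ((KFlatLib.stalkCx X x).obj (sf V n))) 0 :=
  Homotopy.ofEq (by
    refine HomologicalComplex.hom_ext _ _ fun i => ?_
    by_cases h : i = n
    · subst h
      exact (IsZero.of_iso (subsingleton_stalk_freeU hx)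
        ((DerSch.stalkFunctor X x).mapIso (singleObjXSelf (ComplexShape.up ℤ) i _))).eq_of_src _ _
    · exact ((DerSch.stalkFunctor X x).map_isZero
        (isZero_single_obj_X _ _ _ _ h)).eq_of_src _ _)

theorem acyclic_stalk_sf_tensor {V : X.Opens} {x : X} (hx : x ∉ V) (n : ℤ)
    (L : CochainComplex (ModuleCat.{u} (X.presheaf.stalk x)) ℤ) (i : ℤ) :
    IsZero ((KFlatLib.tT ((KFlatLib.stalkCx X x).obj (sf V n)) L).homology i) :=
  KFlatLib.isZero_homology_of_contractible (KFlatLib.contractibleBimap₁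
    (MonoidalCategory.curriedTensor (ModuleCat.{u} (X.presheaf.stalk x))) L (stalkSfContractible hx n)) i

theorem acyclic_sf_tensor {V : X.Opens} {C : Cx X} (hC : AcyOn V C) (n : ℤ) :
    (((Gen.tR (Tb X) C).obj (sf V n))).Acyclic := by
  intro i
  rw [exactAt_iff_isZero_homology]
  revert i
  refine (KFlatLib.tensor_acyclic_iff (sf V n) C).mpr fun x => ?_
  by_cases hx : x ∈ V
  · exact KFlatLib.acyclic_tensor_symm
      (KFlatLib.stalks_isKFlat (DCohRestrLib.isKFlat_singleFree V n) x _ (hC x hx))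
  · exact fun i => acyclic_stalk_sf_tensor hx n _ i

theorem quasiIso_sf_tensor {V : X.Opens} {C D : Cx X} {f : C ⟶ D} (hf : QisOn V f) (n : ℤ) :
    QuasiIso ((Gen.tL (Tb X) (sf V n)).map f) := by
  change QuasiIso (mapBifunctorMap (𝟙 (sf V n)) f (DCoh.tensorBi (X := X)) (ComplexShape.up ℤ))
  rw [KFlatLib.quasiIso_mapBifunctorMap_iff]
  intro x
  rw [CategoryTheory.Functor.map_id]
  by_cases hx : x ∈ V
  · haveI := hf x hx
    exact KFlatLib.quasiIso_tMap_left (KFlatLib.stalks_isKFlat (DCohRestrLib.isKFlat_singleFree V n) x) _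
  · refine ⟨fun i => (quasiIsoAt_iff_isIso_homologyMap _ _).2 ?_⟩
    exact (acyclic_stalk_sf_tensor hx n _ i).isIso (acyclic_stalk_sf_tensor hx n _ i) _

/-- Test for vanishing of the stalk of the cohomology of an internal hom. -/
theorem isZero_stalk_homology {U : X.Opens} {C I : Cx X} {x : X} (hx : x ∈ U) (i : ℤ)
    (h : ∀ V : X.Opens, V ≤ U → ∀ a : (Gen.tR (Tb X) C).obj (sf V i) ⟶ I, Nonempty (Homotopy a 0)) :
    IsZero (((KFlatLib.stalkCx X x).obj (iG C I)).homology i) := by
  refine (exactAt_iff_isZero_homology _ _).1 ?_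
  rw [exactAt_iff' _ (i - 1) i (i + 1) (by simp) (by simp), ShortComplex.moduleCat_exact_iff]
  intro z hz
  obtain ⟨W, hxW, s, rfl⟩ := TopCat.Presheaf.germ_exist (((iG C I).X i).presheaf) z
  have hz' : ((iG C I).X (i + 1)).presheaf.germ W x hxW (((iG C I).d i (i + 1)).app W s) =
      ((iG C I).X (i + 1)).presheaf.germ W x hxW 0 := by
    rw [map_zero]
    exact (DerSch.stalkFunctor_map_germ x ((iG C I).d i (i + 1)) W hxW s).symm.trans hz
  obtain ⟨V₀, hxV₀, iU, _iV, hV₀⟩ := TopCat.Presheaf.germ_eq _ x hxW hxW _ _ hz'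
  let V : X.Opens := V₀ ⊓ U
  let r : V ⟶ W := homOfLE (inf_le_left.trans iU.le)
  let s' : Γ((iG C I).X i, V) := ((iG C I).X i).presheaf.map r.op s
  have hs' : ((iG C I).d i (i + 1)).app V s' = 0 := by
    have h1 : ((iG C I).X (i + 1)).presheaf.map r.op (((iG C I).d i (i + 1)).app W s) =
        ((iG C I).d i (i + 1)).app V s' :=
      (ConcreteCategory.congr_hom ((Scheme.Modules.Hom.mapPresheaf ((iG C I).d i (i + 1))).naturality
        r.op) s).symm
    rw [← h1]
    have hr : r.op = iU.op ≫ (homOfLE (inf_le_left : V ≤ V₀)).op := Subsingleton.elim _ _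
    rw [hr, Functor.map_comp]
    refine (congrArg (((iG C I).X (i + 1)).presheaf.map (homOfLE (inf_le_left : V ≤ V₀)).op) hV₀).trans ?_
    simp
  let φ : sf V i ⟶ iG C I := mkHomFromSingle (KFlatLib.secMap s') (fun j hj => by
    obtain rfl : j = i + 1 := hj.symm
    rw [KFlatLib.secMap_comp, hs', KFlatLib.secMap_zero])
  obtain ⟨hn⟩ := h V inf_le_right (Gen.adjunct φ)
  obtain ⟨H⟩ := Gen.nonempty_null_of_adjunct φ hn
  let w : KFlatLib.freeU V ⟶ (iG C I).X (i - 1) :=
    (singleObjXSelf (ComplexShape.up ℤ) i _).inv ≫ H.hom i (i - 1)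
  have hw : w ≫ (iG C I).d (i - 1) i = KFlatLib.secMap s' := by
    have hc := H.comm i
    rw [dNext_eq H.hom (show (ComplexShape.up ℤ).Rel i (i + 1) from rfl),
      prevD_eq H.hom (show (ComplexShape.up ℤ).Rel (i - 1) i by simp)] at hc
    simp only [single_obj_d, zero_comp, zero_add, zero_f, add_zero] at hc
    simp only [w, Category.assoc]
    rw [← hc]
    simp [φ]
  refine ⟨((iG C I).X (i - 1)).presheaf.germ V x ⟨hxV₀, hx⟩ (KFlatLib.freeUEquiv V _ w), ?_⟩
  refine (DerSch.stalkFunctor_map_germ x ((iG C I).d (i - 1) i) V ⟨hxV₀, hx⟩ _).trans ?_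
  rw [← KFlatLib.freeUEquiv_comp, hw, KFlatLib.secMap, Equiv.apply_symm_apply]
  exact TopCat.Presheaf.germ_res_apply ((iG C I).X i).presheaf r x ⟨hxV₀, hx⟩ s

/-- The internal hom out of a complex acyclic on `U` is acyclic on `U`. -/
theorem acyOn_iG {U : X.Opens} {C : Cx X} (hC : AcyOn U C) (I : Cx X) [I.IsKInjective] :
    AcyOn U (iG C I) := fun x hx i =>
  isZero_stalk_homology hx i fun V hV a =>
    CochainComplex.IsKInjective.nonempty_homotopy_zero a
      (acyclic_sf_tensor (fun y hy => hC y (hV hy)) i)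

theorem acyOn_of_contractible (U : X.Opens) {W : Cx X} (hW : Homotopy (𝟙 W) 0) : AcyOn U W :=
  fun x _ i => (KFlatLib.acyclic_iff_stalks W).1 (KFlatLib.isZero_homology_of_contractible hW) x i

theorem shortExact_stalk {S : ShortComplex (Cx X)} (hS : S.ShortExact) (x : X) :
    (S.map (KFlatLib.stalkCx X x)).ShortExact :=
  shortExact_of_degreewise_shortExact _ fun n =>
    ((HomologicalComplex.shortExact_iff_degreewise_shortExact S).1 hS n).map_of_exact
      (DerSch.stalkFunctor X x)

theorem qisOn_g {U : X.Opens} {S : ShortComplex (Cx X)} (hS : S.ShortExact) (h : AcyOn U S.X₁) :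
    QisOn U S.g := fun x hx => KFlatLib.quasiIso_g_of_acyclic (shortExact_stalk hS x) (h x hx)

theorem qisOn_f {U : X.Opens} {S : ShortComplex (Cx X)} (hS : S.ShortExact) (h : AcyOn U S.X₃) :
    QisOn U S.f := fun x hx => KFlatLib.quasiIso_f_of_acyclic (shortExact_stalk hS x) (h x hx)

theorem QisOn.comp {U : X.Opens} {A B C : Cx X} {f : A ⟶ B} {g : B ⟶ C} (hf : QisOn U f)
    (hg : QisOn U g) : QisOn U (f ≫ g) := fun x hx => by
  haveI := hf x hx
  haveI := hg x hx
  rw [Functor.map_comp]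
  infer_instance

theorem acyOn_X₃ {U : X.Opens} {S : ShortComplex (Cx X)} (hS : S.ShortExact) (h : QisOn U S.f) :
    AcyOn U S.X₃ := fun x hx n =>
  (exactAt_iff_isZero_homology _ _).1 ((shortExact_stalk hS x).acyclic_X₃ (h x hx) n)

/-- A morphism which is a quasi-isomorphism on `U` gives one on internal homs. -/
theorem qisOn_gm {U : X.Opens} {K K' : Cx X} {κ : K ⟶ K'} (hκ : QisOn U κ) (I : Cx X)
    [I.IsKInjective] : QisOn U (gm κ I) := fun x hx =>
  Gen.quasiIso_map_Gmap (T := Tb X) (ι := {y : X // y ∈ U})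
    (B := fun y => ModuleCat.{u} (X.presheaf.stalk y.1))
    (fun y => DerSch.stalkFunctor X y.1) I
    (fun C hC y n => acyOn_iG (fun z hz m => hC ⟨z, hz⟩ m) I y.1 y.2 n) κ
    (fun y => hκ y.1 y.2) ⟨x, hx⟩

theorem quasiIso_gm {K K' : Cx X} (κ : K ⟶ K') [QuasiIso κ] (I : Cx X) [I.IsKInjective] :
    QuasiIso (gm κ I) :=
  quasiIso_of_qisOn_top (qisOn_gm (QisOn.of_quasiIso ⊤ κ) I)

section Restrict

variable (U : X.Opens)

theorem isZero_restrictD_of_acyOn {C : Cx X} (hC : AcyOn U C) :
    IsZero ((DCoh.restrictD U.ι).obj (DerivedCategory.Q.obj C)) := by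
  rw [DCohRestrLib.isZero_restrictD_iff]
  intro i x hx hs
  apply hs
  refine (DCohRestrLib.subsingleton_stalk_of_iso
    ((DerivedCategory.homologyFunctorFactors X.Modules i).app C) x).2 ?_
  exact ModuleCat.subsingleton_of_isZero ((hC x hx i).of_iso (KFlatLib.stalkHomologyIso C x i).symm)

/-- A quasi-isomorphism on `U` becomes an isomorphism in `D(O_U)`. -/
theorem isIso_restrictD_of_qisOn {C D : Cx X} {f : C ⟶ D} (hf : QisOn U f) :
    IsIso ((DCoh.restrictD U.ι).map (DerivedCategory.Q.map f)) := by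
  have hT := (DCoh.restrictD U.ι).map_distinguished _
    (DerivedCategory.mappingCone_triangle_distinguished f)
  refine (Pretriangulated.Triangle.isZero₃_iff_isIso₁ _ hT).1 ?_
  refine isZero_restrictD_of_acyOn U fun x hx n => ?_
  haveI := hf x hx
  exact ((KFlatLib.acyclic_cone_iff ((KFlatLib.stalkCx X x).map f)).2 inferInstance n).of_iso
      ((HomologicalComplex.homologyFunctor _ _ n).mapIso
        (CochainComplex.mappingCone.mapHomologicalComplexIso f (DerSch.stalkFunctor X x)))

/-- The triangle of internal homs of a degreewise split sequence, on `U`. -/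
theorem exists_triangle {S : ShortComplex (Cx X)} (hS : S.ShortExact) :
    ∃ (δ : (DCoh.restrictD U.ι).obj (DerivedCategory.Q.obj S.X₃) ⟶
        ((DCoh.restrictD U.ι).obj (DerivedCategory.Q.obj S.X₁))⟦(1 : ℤ)⟧),
      Pretriangulated.Triangle.mk ((DCoh.restrictD U.ι).map (DerivedCategory.Q.map S.f))
        ((DCoh.restrictD U.ι).map (DerivedCategory.Q.map S.g)) δ ∈
          Pretriangulated.distinguishedTriangles :=
  ⟨_, (DCoh.restrictD U.ι).map_distinguished _ (DerivedCategory.triangleOfSES_distinguished hS)⟩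

end Restrict

end Groth.Agent.PerfDualLib
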